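import Groth.Prelude.Def_SGA1t
import Groth.Agent.L20.WeaklyEtaleStalk
import Mathlib.RingTheory.Etale.Weakly
import Mathlib.AlgebraicGeometry.AffineSpace
import Mathlib.AlgebraicGeometry.Morphisms.Etale
import Mathlib.AlgebraicGeometry.Morphisms.Smooth

/-!
# Formally etale coordinates at a point of a relative normal crossings divisor
-/

set_option autoImplicit false
set_option linter.style.haveILetI false
set_option backward.isDefEq.respectTransparency.types false

universe u

open CategoryTheory Limits AlgebraicGeometry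

namespace Groth.L27.KummerSNC

/-- A weakly etale ring map. -/
def IsWE {A B : Type u} [CommRing A] [CommRing B] (f : A →+* B) : Prop :=
  letI := f.toAlgebra
  Algebra.WeaklyEtale A B

theorem IsWE.comp {A B C : Type u} [CommRing A] [CommRing B] [CommRing C] {f : A →+* B}
    {g : B →+* C} (hf : IsWE f) (hg : IsWE g) : IsWE (g.comp f) := by
  letI := f.toAlgebra
  letI := g.toAlgebra
  letI := (g.comp f).toAlgebra
  haveI : IsScalarTower A B C := IsScalarTower.of_algebraMap_eq fun _ => rfl
  haveI : Algebra.WeaklyEtale A B := hf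
  haveI : Algebra.WeaklyEtale B C := hg
  exact Algebra.WeaklyEtale.trans A B C

theorem IsWE.of_bijective {A B : Type u} [CommRing A] [CommRing B] {f : A →+* B}
    (hf : Function.Bijective f) : IsWE f := by
  letI := f.toAlgebra
  haveI : IsLocalization (⊥ : Submonoid A) B :=
    { map_units := fun y => by rw [Submonoid.mem_bot.1 y.2, map_one]; exact isUnit_one
      surj := fun z => by obtain ⟨a, rfl⟩ := hf.2 z; exact ⟨(a, 1), by simp [RingHom.algebraMap_toAlgebra]⟩
      exists_of_eq := fun h => ⟨1, by simpa using hf.1 h⟩ }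
  exact Groth.L20.weaklyEtale_isLocalization (⊥ : Submonoid A) B

/-- An etale morphism to affine space over `S`, restricted to affine opens, is an etale map from a
polynomial ring. -/
theorem etale_eval₂ {X S : Scheme.{u}} {n : Type u} (g : X ⟶ S) (v : n → Γ(X, ⊤))
    [Etale (AffineSpace.homOfVector g v)] {U : S.Opens} (hU : IsAffineOpen U) {V : Scheme.{u}}
    [IsAffine V] (j : V ⟶ X) [IsOpenImmersion j] (g' : V ⟶ U) (hg' : g' ≫ U.ι = j ≫ g) :
    (MvPolynomial.eval₂Hom g'.appTop.hom (j.appTop ∘ v)).Etale := by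
  haveI : IsAffine (U : Scheme.{u}) := hU
  let h : V ⟶ AffineSpace n (U : Scheme.{u}) := AffineSpace.homOfVector g' (j.appTop ∘ v)
  haveI : IsOpenImmersion (AffineSpace.map n U.ι) :=
    MorphismProperty.of_isPullback (P := @IsOpenImmersion) (AffineSpace.isPullback_map U.ι).flip
      inferInstance
  have hh : h ≫ AffineSpace.map n U.ι = j ≫ AffineSpace.homOfVector g v := by
    ext i
    · simp [h, hg']
    · rw [Scheme.Hom.comp_appTop, Scheme.Hom.comp_appTop, CommRingCat.comp_apply,
        CommRingCat.comp_apply, AffineSpace.map_appTop_coord,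
        AffineSpace.homOfVector_appTop_coord, AffineSpace.homOfVector_appTop_coord]
      rfl
  haveI : Etale h := by
    haveI : Etale (h ≫ AffineSpace.map n U.ι) := hh ▸ inferInstance
    exact Etale.of_comp h (AffineSpace.map n U.ι)
  let e := MvPolynomial.eval₂Hom g'.appTop.hom (j.appTop ∘ v)
  have hm : h ≫ (AffineSpace.isoOfIsAffine n (U : Scheme.{u})).hom =
      V.toSpecΓ ≫ Spec.map (CommRingCat.ofHom e) := by
    rw [AffineSpace.isoOfIsAffine_hom, Scheme.toSpecΓ_naturality_assoc, ← Spec.map_comp]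
    congr 2
    ext1
    refine MvPolynomial.ringHom_ext (fun a => ?_) fun i => ?_
    · simp only [CommRingCat.hom_comp, RingHom.coe_comp, Function.comp_apply,
        CommRingCat.hom_ofHom, e, MvPolynomial.coe_eval₂Hom, MvPolynomial.eval₂_C]
      rw [← CommRingCat.comp_apply, ← Scheme.Hom.comp_appTop, AffineSpace.homOfVector_over]
    · simp only [CommRingCat.hom_comp, RingHom.coe_comp, Function.comp_apply,
        CommRingCat.hom_ofHom, e, MvPolynomial.coe_eval₂Hom, MvPolynomial.eval₂_X]
      exact AffineSpace.homOfVector_appTop_coord _ _ _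
  have : Etale (Spec.map (CommRingCat.ofHom e)) := by
    haveI : Etale (h ≫ (AffineSpace.isoOfIsAffine n (U : Scheme.{u})).hom) := inferInstance
    rw [hm] at this
    exact (MorphismProperty.cancel_left_of_respectsIso (P := @Etale) V.toSpecΓ _).1 this
  exact (HasRingHomProperty.Spec_iff (P := @Etale)).1 this

/-- Formally etale coordinates at a point of a relative strict normal crossings divisor. -/
theorem exists_coords {X S : Scheme.{u}} (f : X ⟶ S) {r : ℕ} (φ : Fin r → Γ(X, ⊤))
    (hD : SGA1t.IsRelSNC f φ) (x : X) (hx : Nonempty (SGA1t.vanishingAt φ x)) :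
    ∃ (U : S.Opens) (hU : IsAffineOpen U) (θ : Γ(S, U) →+* X.presheaf.stalk x) (d : ℕ)
      (ψ : MvPolynomial (ULift.{u} (Fin d)) Γ(S, U) →+* X.presheaf.stalk x)
      (e : SGA1t.vanishingAt φ x → Fin d),
      Spec.map (CommRingCat.ofHom θ) ≫ hU.fromSpec = X.fromSpecStalk x ≫ f ∧
      ψ.comp MvPolynomial.C = θ ∧ ψ.FormallyEtale ∧ IsWE ψ ∧ Function.Injective e ∧
      ∀ i, ψ (MvPolynomial.X (ULift.up (e i))) = (X.presheaf.germ ⊤ x trivial).hom (φ i.1) := by
  obtain ⟨W, hxW, d, v, e, he, hW, hv⟩ := hD x hx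
  obtain ⟨U, hU, hxU, -⟩ := TopologicalSpace.Opens.isBasis_iff_nbhd.mp S.isBasis_affineOpens
    (TopologicalSpace.Opens.mem_top (f x))
  change S.Opens at U
  obtain ⟨V, hV, hxV, hVWU⟩ := TopologicalSpace.Opens.isBasis_iff_nbhd.mp X.isBasis_affineOpens
    (show x ∈ W ⊓ f ⁻¹ᵁ U from ⟨hxW, hxU⟩)
  change X.Opens at V
  have hVW : V ≤ W := fun y hy => (hVWU hy).1
  have hVU : V ≤ f ⁻¹ᵁ U := fun y hy => (hVWU hy).2
  haveI : IsAffine (V : Scheme.{u}) := hV
  let g' := f.resLE U V hVU
  have hg' : g' ≫ U.ι = X.homOfLE hVW ≫ W.ι ≫ f := by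
    rw [Scheme.Hom.resLE_comp_ι, Scheme.homOfLE_ι_assoc]
  have hev := etale_eval₂ (W.ι ≫ f) v hU (X.homOfLE hVW) g' hg'
  let ev := MvPolynomial.eval₂Hom g'.appTop.hom ((X.homOfLE hVW).appTop ∘ v)
  let germV : Γ(X, V) →+* X.presheaf.stalk x := (X.presheaf.germ V x hxV).hom
  let toSt : Γ(↑V, ⊤) →+* X.presheaf.stalk x := germV.comp V.topIso.hom.hom
  let ι₀ : MvPolynomial (ULift.{u} (Fin d)) Γ(S, U) →+*
      MvPolynomial (ULift.{u} (Fin d)) Γ(↑U, ⊤) := MvPolynomial.map U.topIso.inv.hom
  let θ : Γ(S, U) →+* X.presheaf.stalk x := germV.comp (f.appLE U V hVU).hom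
  let ψ := toSt.comp (ev.comp ι₀)
  refine ⟨U, hU, θ, d, ψ, e, ?_, ?_, ?_, ?_, he, fun i => ?_⟩
  · rw [show CommRingCat.ofHom θ = f.appLE U V hVU ≫ X.presheaf.germ V x hxV from rfl,
      Spec.map_comp, Category.assoc, IsAffineOpen.SpecMap_appLE_fromSpec f hU hV hVU,
      ← Category.assoc]
    congr 1
    exact hV.fromSpecStalk_eq_fromSpecStalk hxV
  · refine RingHom.ext fun a => ?_
    simp only [ψ, RingHom.coe_comp, Function.comp_apply, ι₀, MvPolynomial.map_C, ev,
      MvPolynomial.coe_eval₂Hom, MvPolynomial.eval₂_C, toSt, θ]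
    congr 1
    have h := congrArg (fun t => t a) (show U.topIso.inv ≫ g'.appTop ≫ V.topIso.hom =
      f.appLE U V hVU by
        simp [g', Scheme.Hom.appTop, Scheme.Hom.resLE_app_top]
        erw [← S.presheaf.map_comp_assoc, Scheme.Hom.map_appLE_assoc, ← X.presheaf.map_comp,
          Scheme.Hom.appLE_map])
    exact h
  · letI := (Scheme.Opens.topIso U).commRingCatIsoToRingEquiv
    have h1 : ι₀.FormallyEtale := by
      letI := ι₀.toAlgebra
      let eq := MvPolynomial.mapEquiv (ULift.{u} (Fin d)) U.topIso.symm.commRingCatIsoToRingEquiv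
      exact Algebra.FormallyEtale.of_equiv
        (AlgEquiv.ofRingEquiv (f := eq) (fun _ => rfl) :
          MvPolynomial (ULift.{u} (Fin d)) Γ(S, U) ≃ₐ[MvPolynomial (ULift.{u} (Fin d)) Γ(S, U)] _)
    have h2 : ev.FormallyEtale := by
      letI := ev.toAlgebra
      haveI : Algebra.Etale (MvPolynomial (ULift.{u} (Fin d)) Γ(↑U, ⊤)) Γ(↑V, ⊤) := hev
      exact inferInstanceAs (Algebra.FormallyEtale _ _)
    have h3 : V.topIso.hom.hom.FormallyEtale := by
      letI := V.topIso.hom.hom.toAlgebra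
      exact Algebra.FormallyEtale.of_equiv
        (AlgEquiv.ofRingEquiv (f := V.topIso.commRingCatIsoToRingEquiv) (fun _ => rfl) :
          Γ(↑V, ⊤) ≃ₐ[Γ(↑V, ⊤)] Γ(X, V))
    have h4 : germV.FormallyEtale := by
      letI := germV.toAlgebra
      haveI := hV.isLocalization_stalk ⟨x, hxV⟩
      exact Algebra.FormallyEtale.of_isLocalization (hV.primeIdealOf ⟨x, hxV⟩).asIdeal.primeCompl
    exact (h1.comp h2).comp (h3.comp h4)
  · have h1 : IsWE ι₀ :=
      IsWE.of_bijective (MvPolynomial.mapEquiv _ U.topIso.symm.commRingCatIsoToRingEquiv).bijective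
    have h2 : IsWE ev := by
      letI := ev.toAlgebra
      haveI : Algebra.Etale (MvPolynomial (ULift.{u} (Fin d)) Γ(↑U, ⊤)) Γ(↑V, ⊤) := hev
      exact inferInstanceAs (Algebra.WeaklyEtale _ _)
    have h3 : IsWE V.topIso.hom.hom :=
      IsWE.of_bijective V.topIso.commRingCatIsoToRingEquiv.bijective
    have h4 : IsWE germV := by
      letI := germV.toAlgebra
      haveI := hV.isLocalization_stalk ⟨x, hxV⟩
      exact Groth.L20.weaklyEtale_isLocalization (hV.primeIdealOf ⟨x, hxV⟩).asIdeal.primeCompl _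
    exact (h1.comp h2).comp (h3.comp h4)
  · simp only [ψ, RingHom.coe_comp, Function.comp_apply, ι₀, MvPolynomial.map_X, ev,
      MvPolynomial.coe_eval₂Hom, MvPolynomial.eval₂_X, toSt, germV, hv i]
    rw [← TopCat.Presheaf.germ_res_apply X.presheaf (homOfLE (le_top : V ≤ ⊤)) x hxV]
    congr 1
    have h := congrArg (fun t => t (φ i.1)) (show X.presheaf.map (homOfLE (le_top : W ≤ ⊤)).op ≫
      W.topIso.inv ≫ (X.homOfLE hVW).appTop ≫ V.topIso.hom =
        X.presheaf.map (homOfLE (le_top : V ≤ ⊤)).op by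
          simp only [Scheme.Opens.topIso_hom, Scheme.Opens.topIso_inv, Scheme.homOfLE_appTop,
            ← Functor.map_comp]
          erw [← X.presheaf.map_comp, ← X.presheaf.map_comp, ← X.presheaf.map_comp]
          rfl)
    exact h

end Groth.L27.KummerSNC
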