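import Groth.Prelude.Def_SGA1t
import Groth.Agent.L20.WeaklyEtale
import Groth.Agent.L20.WeaklyEtaleStalk
import Mathlib.RingTheory.Flat.TorsionFree
import Mathlib.RingTheory.TensorProduct.Quotient
import Mathlib.RingTheory.Idempotents
import Mathlib.Algebra.MvPolynomial.Nilpotent
import Mathlib.RingTheory.Spectrum.Prime.Topology

/-!
# The complement of the branch divisor in a Kummer cover is connected
-/

set_option autoImplicit false
set_option linter.style.haveILetI false
set_option backward.isDefEq.respectTransparency.types false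

universe u

open MvPolynomial TensorProduct

namespace Groth.L27.KummerSNC

theorem weaklyEtale_of_algEquiv {A B B' : Type u} [CommRing A] [CommRing B] [CommRing B']
    [Algebra A B] [Algebra A B'] (e : B ≃ₐ[A] B') [Algebra.WeaklyEtale A B] :
    Algebra.WeaklyEtale A B' := by
  letI := e.toAlgHom.toRingHom.toAlgebra
  haveI : IsScalarTower A B B' := IsScalarTower.of_algebraMap_eq fun x => (e.commutes x).symm
  haveI : IsLocalization (⊥ : Submonoid B) B' := by
    haveI : IsLocalization (⊥ : Submonoid B) B :=
      { map_units := fun y => by rw [Submonoid.mem_bot.1 y.2, map_one]; exact isUnit_one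
        surj := fun z => ⟨(z, 1), by simp⟩
        exists_of_eq := fun h => ⟨1, by simpa using h⟩ }
    exact IsLocalization.isLocalization_of_algEquiv (⊥ : Submonoid B)
      ({ e with commutes' := fun b => rfl } : B ≃ₐ[B] B')
  haveI := Groth.L20.weaklyEtale_isLocalization (⊥ : Submonoid B) B'
  exact Algebra.WeaklyEtale.trans A B B'

/-- `MvPolynomial σ O`, viewed over itself by `X_{e i} ↦ X_{e i} ^ n i`. -/
def KPoly (σ O : Type u) [CommRing O] : Type u := MvPolynomial σ O

noncomputable instance (σ O : Type u) [CommRing O] : CommRing (KPoly σ O) :=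
  inferInstanceAs (CommRing (MvPolynomial σ O))

/-- The identity, into `KPoly`. -/
def KPoly.mk {σ O : Type u} [CommRing O] (p : MvPolynomial σ O) : KPoly σ O := p

section

variable {O R σ : Type u} [CommRing O] [CommRing R] [Algebra (MvPolynomial σ O) R]
  {ι : Type} (e : ι → σ) (n : ι → ℕ)

/-- The exponent of each variable. -/
noncomputable def expo : σ → ℕ := Function.extend e n 1

/-- `X_{e i} ↦ T_i`, the other variables to themselves. -/
noncomputable def rootMap :
    MvPolynomial σ O →+* SGA1t.kummer R (fun i => algebraMap (MvPolynomial σ O) R (X (e i))) n :=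
  eval₂Hom ((algebraMap R _).comp ((algebraMap (MvPolynomial σ O) R).comp C))
    (Function.extend e (fun i => Ideal.Quotient.mk _ (X i))
      fun j => algebraMap R _ (algebraMap (MvPolynomial σ O) R (X j)))

theorem rootMap_X (he : Function.Injective e) (i : ι) :
    rootMap (O := O) (R := R) e n (X (e i)) = Ideal.Quotient.mk _ (X i) := by
  rw [rootMap, eval₂Hom_X', he.extend_apply]

theorem weaklyEtale_rootMap [Algebra.WeaklyEtale (MvPolynomial σ O) R] (he : Function.Injective e) :
    letI := (rootMap (O := O) (R := R) e n).toAlgebra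
    Algebra.WeaklyEtale (MvPolynomial σ O)
      (SGA1t.kummer R (fun i => algebraMap (MvPolynomial σ O) R (X (e i))) n) := by
  let a : ι → R := fun i => algebraMap (MvPolynomial σ O) R (X (e i))
  let K := SGA1t.kummer R a n
  let κ : MvPolynomial σ O →+* KPoly σ O := eval₂Hom (C : O →+* MvPolynomial σ O) fun j => X j ^ expo e n j
  letI : Algebra (MvPolynomial σ O) (KPoly σ O) := κ.toAlgebra
  let q : KPoly σ O →+* K := rootMap (O := O) (R := R) e n
  letI : Algebra (KPoly σ O) K := q.toAlgebra
  have hq : ∀ p : MvPolynomial σ O, q (κ p) = algebraMap R K (algebraMap _ R p) := by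
    refine DFunLike.congr_fun (f := q.comp κ)
      (g := (algebraMap R K).comp (algebraMap (MvPolynomial σ O) R)) ?_
    refine ringHom_ext (fun o => ?_) fun j => ?_
    · simp only [RingHom.coe_comp, Function.comp_apply, κ, eval₂Hom_C]
      exact eval₂Hom_C _ _ o
    · simp only [RingHom.coe_comp, Function.comp_apply, κ, eval₂Hom_X']
      change rootMap e n ((X j : MvPolynomial σ O) ^ expo e n j) = _
      rw [map_pow]
      by_cases hj : ∃ i, e i = j
      · obtain ⟨i, rfl⟩ := hj
        rw [rootMap_X e n he, expo, he.extend_apply, ← map_pow]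
        exact Ideal.Quotient.eq.2 (Ideal.subset_span ⟨i, rfl⟩)
      · rw [expo, Function.extend_apply' _ _ _ hj, Pi.one_apply, pow_one, rootMap, eval₂Hom_X',
          Function.extend_apply' _ _ _ hj]
  haveI : IsScalarTower (MvPolynomial σ O) (KPoly σ O) K :=
    IsScalarTower.of_algebraMap_eq fun p => by
      rw [IsScalarTower.algebraMap_apply (MvPolynomial σ O) R K]
      exact (hq p).symm
  let G : KPoly σ O ⊗[MvPolynomial σ O] R →ₐ[KPoly σ O] K :=
    Algebra.TensorProduct.lift (Algebra.ofId (KPoly σ O) K)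
      (IsScalarTower.toAlgHom (MvPolynomial σ O) R K) fun _ _ => Commute.all _ _
  let iR : R →+* KPoly σ O ⊗[MvPolynomial σ O] R :=
    (Algebra.TensorProduct.includeRight (R := MvPolynomial σ O)).toRingHom
  let tT : ι → KPoly σ O ⊗[MvPolynomial σ O] R := fun i => KPoly.mk (X (e i)) ⊗ₜ (1 : R)
  let F : K →+* KPoly σ O ⊗[MvPolynomial σ O] R := Ideal.Quotient.lift _ (eval₂Hom iR tT) (by
    intro x hx
    rw [← RingHom.mem_ker]
    refine Ideal.span_le.2 ?_ hx
    rintro _ ⟨i, rfl⟩
    rw [SetLike.mem_coe, RingHom.mem_ker, map_sub, map_pow, eval₂Hom_X', eval₂Hom_C, sub_eq_zero]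
    have h1 : κ (X (e i)) = ((X (e i) : MvPolynomial σ O) ^ n i : MvPolynomial σ O) := by
      simp [κ, expo, he.extend_apply]
    change (KPoly.mk (X (e i)) ⊗ₜ[MvPolynomial σ O] (1 : R)) ^ n i = (1 : KPoly σ O) ⊗ₜ a i
    rw [Algebra.TensorProduct.tmul_pow, one_pow]
    change _ = (1 : KPoly σ O) ⊗ₜ[MvPolynomial σ O] (algebraMap (MvPolynomial σ O) R (X (e i)))
    rw [Algebra.algebraMap_eq_smul_one (A := R), ← TensorProduct.smul_tmul, Algebra.smul_def, mul_one]
    exact congrArg (fun z => z ⊗ₜ[MvPolynomial σ O] (1 : R)) h1.symm)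
  have hGF : G.toRingHom.comp F = RingHom.id K := by
    refine Ideal.Quotient.ringHom_ext (ringHom_ext (fun r => ?_) fun i => ?_)
    · change G (eval₂Hom iR tT (C r)) = Ideal.Quotient.mk _ (C r)
      rw [eval₂Hom_C]
      change G (1 ⊗ₜ r) = _
      rw [Algebra.TensorProduct.lift_tmul, map_one, one_mul]
      rfl
    · change G (eval₂Hom iR tT (X i)) = Ideal.Quotient.mk _ (X i)
      rw [eval₂Hom_X', Algebra.TensorProduct.lift_tmul, map_one, mul_one]
      exact rootMap_X e n he i
  have hFq : F.comp q = (Algebra.TensorProduct.includeLeftRingHom :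
      KPoly σ O →+* KPoly σ O ⊗[MvPolynomial σ O] R) := by
    refine ringHom_ext (R := O) (σ := σ) (fun o => ?_) fun j => ?_
    · change F (rootMap e n (C o)) = KPoly.mk (C o) ⊗ₜ (1 : R)
      rw [rootMap, eval₂Hom_C]
      change eval₂Hom iR tT (C (algebraMap (MvPolynomial σ O) R (C o))) = _
      rw [eval₂Hom_C]
      change (1 : KPoly σ O) ⊗ₜ[MvPolynomial σ O] (algebraMap (MvPolynomial σ O) R (C o)) = _
      rw [Algebra.algebraMap_eq_smul_one (A := R), ← TensorProduct.smul_tmul, Algebra.smul_def, mul_one]
      exact congrArg (fun z => z ⊗ₜ[MvPolynomial σ O] (1 : R)) (eval₂Hom_C _ _ o)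
    · change F (rootMap e n (X j)) = KPoly.mk (X j) ⊗ₜ (1 : R)
      by_cases hj : ∃ i, e i = j
      · obtain ⟨i, rfl⟩ := hj
        rw [rootMap_X e n he]
        exact eval₂Hom_X' _ _ i
      · rw [rootMap, eval₂Hom_X', Function.extend_apply' _ _ _ hj]
        change eval₂Hom iR tT (C (algebraMap (MvPolynomial σ O) R (X j))) = _
        rw [eval₂Hom_C]
        change (1 : KPoly σ O) ⊗ₜ[MvPolynomial σ O] (algebraMap (MvPolynomial σ O) R (X j)) = _
        rw [Algebra.algebraMap_eq_smul_one (A := R), ← TensorProduct.smul_tmul, Algebra.smul_def, mul_one]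
        refine congrArg (fun z => z ⊗ₜ[MvPolynomial σ O] (1 : R)) ?_
        change eval₂Hom C (fun j => X j ^ expo e n j) (X j) = (X j : MvPolynomial σ O)
        rw [eval₂Hom_X', expo, Function.extend_apply' _ _ _ hj, Pi.one_apply, pow_one]
  have hFG : ∀ z, F (G z) = z := by
    intro z
    induction z using TensorProduct.induction_on with
    | zero => rw [map_zero, map_zero]
    | tmul p r =>
      rw [Algebra.TensorProduct.lift_tmul, map_mul]
      change F (q p) * eval₂Hom iR tT (C r) = _
      rw [eval₂Hom_C, show F (q p) = p ⊗ₜ (1 : R) from DFunLike.congr_fun hFq p]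
      change (p ⊗ₜ[MvPolynomial σ O] (1 : R)) * ((1 : KPoly σ O) ⊗ₜ r) = _
      rw [Algebra.TensorProduct.tmul_mul_tmul, mul_one, one_mul]
    | add x y hx hy => rw [map_add, map_add, hx, hy]
  exact weaklyEtale_of_algEquiv (A := KPoly σ O) (AlgEquiv.ofBijective G
    ⟨Function.LeftInverse.injective hFG, fun x => ⟨F x, DFunLike.congr_fun hGF x⟩⟩)

end

/-- The Kummer algebra, as an algebra over the polynomial ring through `rootMap`. -/
def KRoot {O R σ : Type u} [CommRing O] [CommRing R] [Algebra (MvPolynomial σ O) R] {ι : Type}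
    (e : ι → σ) (n : ι → ℕ) : Type u :=
  SGA1t.kummer R (fun i => algebraMap (MvPolynomial σ O) R (X (e i))) n

noncomputable instance {O R σ : Type u} [CommRing O] [CommRing R] [Algebra (MvPolynomial σ O) R]
    {ι : Type} (e : ι → σ) (n : ι → ℕ) : CommRing (KRoot (O := O) (R := R) e n) :=
  inferInstanceAs (CommRing (SGA1t.kummer R _ n))

noncomputable instance {O R σ : Type u} [CommRing O] [CommRing R] [Algebra (MvPolynomial σ O) R]
    {ι : Type} (e : ι → σ) (n : ι → ℕ) : Algebra (MvPolynomial σ O) (KRoot (O := O) (R := R) e n) :=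
  (rootMap (O := O) (R := R) e n).toAlgebra

/-- The identity, into `KRoot`. -/
def KRoot.mk {O R σ : Type u} [CommRing O] [CommRing R] [Algebra (MvPolynomial σ O) R] {ι : Type}
    {e : ι → σ} {n : ι → ℕ} (x : SGA1t.kummer R (fun i => algebraMap (MvPolynomial σ O) R (X (e i))) n) :
    KRoot (O := O) (R := R) e n := x

/-- Dividing an idempotent fraction through regular elements with reduced quotient. -/
theorem exists_eq_prod_mul {C : Type u} [CommRing C] :
    ∀ L : List C, (∀ y ∈ L, IsSMulRegular C y ∧ IsReduced (C ⧸ Ideal.span {y})) →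
      ∀ a : C, a * a = a * L.prod → ∃ b, a = L.prod * b ∧ b * b = b := by
  intro L
  induction L with
  | nil => exact fun _ a ha => ⟨a, by simp, by simpa using ha⟩
  | cons y L ih =>
    intro hL a ha
    obtain ⟨hy, hyred⟩ := hL y (by simp)
    rw [List.prod_cons] at ha
    have hmem : Ideal.Quotient.mk (Ideal.span {y}) a = 0 := by
      refine IsReduced.eq_zero _ ⟨2, ?_⟩
      rw [← map_pow, Ideal.Quotient.eq_zero_iff_mem, Ideal.mem_span_singleton, pow_two, ha]
      exact ⟨a * L.prod, by ring⟩
    obtain ⟨b, rfl⟩ := Ideal.mem_span_singleton'.1 (Ideal.Quotient.eq_zero_iff_mem.1 hmem)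
    have hb : b * b = b * L.prod := hy (show y * (b * b) = y * (b * L.prod) from
      hy (show y * (y * (b * b)) = y * (y * (b * L.prod)) by linear_combination ha))
    obtain ⟨c, rfl, hc⟩ := ih (fun z hz => hL z (List.mem_cons_of_mem _ hz)) b hb
    exact ⟨c, by rw [List.prod_cons]; ring, hc⟩

/-- A local ring weakly etale over a polynomial ring: away from coordinates in the maximal ideal
there is no nontrivial idempotent. -/
theorem idempotent_away {O C σ : Type u} [CommRing O] [IsReduced O] [CommRing C] [IsLocalRing C]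
    [Algebra (MvPolynomial σ O) C] [Algebra.WeaklyEtale (MvPolynomial σ O) C] (L : List σ)
    (Cg : Type u) [CommRing Cg] [Algebra C Cg]
    [IsLocalization.Away ((L.map fun j => algebraMap (MvPolynomial σ O) C (X j)).prod) Cg] :
    (Function.Injective (algebraMap C Cg)) ∧ ∀ x : Cg, x * x = x → x = 0 ∨ x = 1 := by
  classical
  set g := (L.map fun j => algebraMap (MvPolynomial σ O) C (X j)).prod with hg
  have hreg : ∀ j, IsSMulRegular C (algebraMap (MvPolynomial σ O) C (X j)) := by
    intro j x y hxy
    refine (Module.Flat.isSMulRegular_of_nonZeroDivisors (R := MvPolynomial σ O) (M := C)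
      (r := X j) ?_) (by simpa [Algebra.smul_def] using hxy)
    rw [mem_nonZeroDivisors_iff_right]
    intro p hp
    exact (isRegular_X (R := O) (σ := σ) (n := j)).right (hp.trans (zero_mul _).symm)
  have hred : ∀ j, IsReduced (C ⧸ Ideal.span {algebraMap (MvPolynomial σ O) C (X j)}) := by
    intro j
    haveI : IsReduced (MvPolynomial σ O ⧸ Ideal.span {(X j : MvPolynomial σ O)}) := by
      rw [← Ideal.isRadical_iff_quotient_reduced]
      intro p hp
      obtain ⟨k, hk⟩ := hp
      let h : MvPolynomial σ O →ₐ[O] MvPolynomial σ O := aeval fun i => if i = j then 0 else X i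
      have hdiff : ∀ p, p - h p ∈ Ideal.span {(X j : MvPolynomial σ O)} := by
        intro p
        induction p using MvPolynomial.induction_on with
        | C r => simp [h]
        | add a b ha hb =>
          rw [map_add, add_sub_add_comm]
          exact Ideal.add_mem _ ha hb
        | mul_X a i ha =>
          rw [map_mul, show h (X i) = (if i = j then 0 else X i) from aeval_X _ i]
          by_cases hij : i = j
          · rw [if_pos hij, mul_zero, sub_zero, hij]
            exact Ideal.mul_mem_left _ _ (Ideal.mem_span_singleton_self _)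
          · rw [if_neg hij, ← sub_mul]
            exact Ideal.mul_mem_right _ _ ha
      obtain ⟨c, hc⟩ := Ideal.mem_span_singleton'.1 hk
      have h1 : h p = 0 := IsReduced.eq_zero _ ⟨k, by
        rw [← map_pow, ← hc, map_mul, show h (X j) = 0 by simp [h], mul_zero]⟩
      simpa [h1] using hdiff p
    let J : Ideal (MvPolynomial σ O) := Ideal.span {X j}
    haveI : Algebra.WeaklyEtale (MvPolynomial σ O ⧸ J) ((MvPolynomial σ O ⧸ J) ⊗[MvPolynomial σ O] C) :=
      inferInstance
    haveI : IsReduced ((MvPolynomial σ O ⧸ J) ⊗[MvPolynomial σ O] C) :=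
      Groth.L20.isReduced_of_weaklyEtale (MvPolynomial σ O ⧸ J) ((MvPolynomial σ O ⧸ J) ⊗[MvPolynomial σ O] C)
    have h2 : Ideal.span {algebraMap (MvPolynomial σ O) C (X j)} = J.map (algebraMap _ C) := by
      rw [Ideal.map_span, Set.image_singleton]
    rw [h2]
    exact isReduced_of_injective (Algebra.TensorProduct.quotIdealMapEquivQuotTensor C J)
      (EquivLike.injective _)
  have hgreg : IsSMulRegular C g := by
    suffices H : ∀ L₀ : List σ, IsSMulRegular C (L₀.map fun j => algebraMap (MvPolynomial σ O) C (X j)).prod by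
      rw [hg]; exact H L
    intro L₀
    induction L₀ with
    | nil => simpa using IsSMulRegular.one C
    | cons j L₀ ih => rw [List.map_cons, List.prod_cons]; exact (hreg j).mul ih
  have hinj : Function.Injective (algebraMap C Cg) := by
    refine IsLocalization.injective Cg (M := Submonoid.powers g) ?_
    rintro _ ⟨k, rfl⟩
    rw [mem_nonZeroDivisors_iff_right]
    intro x hx
    exact hgreg.pow k (show g ^ k • x = g ^ k • 0 by rw [smul_zero, smul_eq_mul, mul_comm]; exact hx)
  refine ⟨hinj, fun x hx => ?_⟩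
  obtain ⟨⟨a, ⟨_, k, rfl⟩⟩, hxa⟩ := IsLocalization.surj (Submonoid.powers g) x
  change x * algebraMap C Cg (g ^ k) = algebraMap C Cg a at hxa
  have ha : a * a = a * g ^ k := hinj (by
    rw [map_mul, map_mul, ← hxa]
    linear_combination (algebraMap C Cg (g ^ k) * algebraMap C Cg (g ^ k)) * hx)
  let L' : List C := (List.replicate k (L.map fun j => algebraMap (MvPolynomial σ O) C (X j))).flatten
  have hL' : L'.prod = g ^ k := by
    simp [L', List.prod_flatten, List.map_replicate, List.prod_replicate, hg]
  obtain ⟨b, rfl, hb⟩ := exists_eq_prod_mul L' (fun y hy => by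
    obtain ⟨l, hl, hyl⟩ := List.mem_flatten.1 hy
    rw [(List.mem_replicate.1 hl).2] at hyl
    obtain ⟨j, -, rfl⟩ := List.mem_map.1 hyl
    exact ⟨hreg j, hred j⟩) a (by rw [hL']; exact ha)
  rw [hL'] at hxa
  have hu : IsUnit (algebraMap C Cg (g ^ k)) :=
    IsLocalization.map_units Cg (⟨g ^ k, k, rfl⟩ : Submonoid.powers g)
  rw [map_mul, mul_comm x] at hxa
  have hxb : x = algebraMap C Cg b := hu.mul_left_cancel hxa
  rcases IsLocalRing.isUnit_or_isUnit_one_sub_self b with h | h
  · exact .inr (by rw [hxb, show b = 1 from h.mul_left_cancel (by rw [hb, mul_one]), map_one])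
  · refine .inl (by rw [hxb, show b = 0 from h.mul_left_cancel (by rw [sub_mul, one_mul, hb, sub_self, mul_zero]), map_zero])

section

variable {O R σ : Type u} [CommRing O] [CommRing R] [IsLocalRing R] [Algebra (MvPolynomial σ O) R]
  {ι : Type} (a : ι → R) (n : ι → ℕ)

/-- A Kummer algebra on elements of the maximal ideal is local. -/
theorem isLocalRing_kummer (hn : ∀ i, 1 ≤ n i) (ha : ∀ i, a i ∈ IsLocalRing.maximalIdeal R) :
    IsLocalRing (SGA1t.kummer R a n) := by
  let π : SGA1t.kummer R a n →+* IsLocalRing.ResidueField R :=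
    Ideal.Quotient.lift _ (eval₂Hom (IsLocalRing.residue R) 0) (by
      intro x hx
      rw [← RingHom.mem_ker]
      refine Ideal.span_le.2 ?_ hx
      rintro _ ⟨i, rfl⟩
      rw [SetLike.mem_coe, RingHom.mem_ker, map_sub, map_pow, eval₂Hom_X', eval₂Hom_C,
        Pi.zero_apply, zero_pow (by have := hn i; omega), zero_sub, neg_eq_zero,
        IsLocalRing.residue_eq_zero_iff]
      exact ha i)
  have hTint : ∀ i, IsIntegral R (Ideal.Quotient.mk _ (X i) : SGA1t.kummer R a n) := fun i => by
    refine IsIntegral.of_pow (n := n i) (hn i) ?_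
    rw [← map_pow, show Ideal.Quotient.mk _ (X i ^ n i) = algebraMap R (SGA1t.kummer R a n) (a i) from
      Ideal.Quotient.eq.2 (Ideal.subset_span ⟨i, rfl⟩)]
    exact isIntegral_algebraMap
  haveI : Algebra.IsIntegral R (SGA1t.kummer R a n) := ⟨fun x => by
    obtain ⟨P, rfl⟩ := Ideal.Quotient.mk_surjective x
    induction P using MvPolynomial.induction_on with
    | C r => exact isIntegral_algebraMap (x := r)
    | add p q hp hq => rw [map_add]; exact hp.add hq
    | mul_X p i hp => rw [map_mul]; exact hp.mul (hTint i)⟩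
  have hπs : Function.Surjective π := fun y => by
    obtain ⟨r, rfl⟩ := IsLocalRing.residue_surjective y
    exact ⟨Ideal.Quotient.mk _ (C r), eval₂Hom_C _ _ r⟩
  refine IsLocalRing.of_unique_max_ideal ⟨RingHom.ker π, RingHom.ker_isMaximal_of_surjective π hπs,
    fun M hM => ((RingHom.ker_isMaximal_of_surjective π hπs).eq_of_le hM.ne_top ?_).symm⟩
  have hcomap : M.comap (algebraMap R _) = IsLocalRing.maximalIdeal R :=
    IsLocalRing.eq_maximalIdeal (Ideal.isMaximal_comap_of_isIntegral_of_isMaximal M)
  have hT : ∀ i, Ideal.Quotient.mk _ (X i) ∈ M := fun i => by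
    refine hM.isPrime.mem_of_pow_mem (n i) ?_
    rw [← map_pow, show Ideal.Quotient.mk _ (X i ^ n i) = algebraMap R (SGA1t.kummer R a n) (a i) from
      Ideal.Quotient.eq.2 (Ideal.subset_span ⟨i, rfl⟩)]
    exact Ideal.mem_comap.1 (hcomap ▸ ha i)
  intro x hx
  obtain ⟨P, rfl⟩ := Ideal.Quotient.mk_surjective x
  have key : Ideal.Quotient.mk _ (P - C (constantCoeff P)) ∈ M := by
    clear hx
    induction P using MvPolynomial.induction_on with
    | C r => simp
    | add p q hp hq =>
      rw [map_add, C_add, add_sub_add_comm, map_add]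
      exact M.add_mem hp hq
    | mul_X p i hp =>
      rw [map_mul, constantCoeff_X, mul_zero, C_0, sub_zero, map_mul]
      exact M.mul_mem_left _ (hT i)
  have h0 : constantCoeff P ∈ IsLocalRing.maximalIdeal R := by
    rw [← IsLocalRing.residue_eq_zero_iff, constantCoeff]
    have : eval₂Hom (IsLocalRing.residue R) 0 P = 0 := hx
    rw [show (0 : ι → IsLocalRing.ResidueField R) = (fun _ => 0) from rfl, eval₂Hom_zero'_apply] at this
    exact this
  rw [← hcomap, Ideal.mem_comap] at h0
  have h1 : Ideal.Quotient.mk _ (C (constantCoeff P)) ∈ M := h0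
  simpa using M.add_mem key h1

/-- Inverting the roots leaves no nontrivial idempotent. -/
theorem idempotent_kummer [Algebra.WeaklyEtale (MvPolynomial σ O) R] (e : ι → σ)
    (he : Function.Injective e) (hn : ∀ i, 1 ≤ n i)
    (ha : ∀ i, algebraMap (MvPolynomial σ O) R (X (e i)) = a i)
    (ham : ∀ i, a i ∈ IsLocalRing.maximalIdeal R) (g : SGA1t.kummer R a n)
    (L : List ι) (u : (SGA1t.kummer R a n)ˣ)
    (hg : g = ↑u * (L.map fun i => (Ideal.Quotient.mk _ (X i) : SGA1t.kummer R a n)).prod) :
    Nontrivial (Localization.Away g) ∧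
      ∀ x : Localization.Away g, x * x = x → x = 0 ∨ x = 1 := by
  obtain rfl : (fun i => algebraMap (MvPolynomial σ O) R (X (e i))) = a := funext ha
  haveI : IsLocalRing (KRoot (O := O) (R := R) e n) := isLocalRing_kummer _ n hn ham
  haveI : Algebra.WeaklyEtale (MvPolynomial σ O) (KRoot (O := O) (R := R) e n) :=
    weaklyEtale_rootMap (O := O) (R := R) e n he
  let g' : KRoot (O := O) (R := R) e n := g
  suffices H : Nontrivial (Localization.Away g') ∧
      ∀ x : Localization.Away g', x * x = x → x = 0 ∨ x = 1 from H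
  revert hg
  generalize hu : (u : SGA1t.kummer R (fun i => algebraMap (MvPolynomial σ O) R (X (e i))) n) = u'
  intro hg
  let K := KRoot (O := O) (R := R) e n
  replace hg : g' = KRoot.mk u' * (L.map fun i => algebraMap (MvPolynomial σ O) K (X (e i))).prod := by
    refine hg.trans ?_
    congr 2
    exact List.map_congr_left fun i _ => (rootMap_X (O := O) (R := R) e n he i).symm
  have hu' : IsUnit (KRoot.mk u' : K) := hu ▸ u.isUnit
  clear_value g'
  clear hu u g
  rename' g' => g
  -- reduce the base
  let Or := O ⧸ nilradical O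
  letI : Algebra (MvPolynomial σ O) (MvPolynomial σ Or) :=
    (MvPolynomial.map (Ideal.Quotient.mk (nilradical O))).toAlgebra
  haveI hsr : IsScalarTower (MvPolynomial σ O) (MvPolynomial σ Or) (MvPolynomial σ Or) := IsScalarTower.right
  haveI : IsReduced Or := (Ideal.isRadical_iff_quotient_reduced _).1 (Ideal.radical_isRadical _)
  let C := MvPolynomial σ Or ⊗[MvPolynomial σ O] K
  let ρ : K →+* C := ((Algebra.TensorProduct.includeRight : K →ₐ[MvPolynomial σ O] MvPolynomial σ Or ⊗[MvPolynomial σ O] K)).toRingHom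
  have hρs : Function.Surjective ρ := by
    intro z
    induction z using TensorProduct.induction_on with
    | zero => exact ⟨0, map_zero ρ⟩
    | tmul p k =>
      obtain ⟨p, rfl⟩ := MvPolynomial.map_surjective (Ideal.Quotient.mk (nilradical O))
        Ideal.Quotient.mk_surjective p
      refine ⟨algebraMap _ K p * k, ?_⟩
      change (1 : MvPolynomial σ Or) ⊗ₜ[MvPolynomial σ O] (algebraMap _ K p * k) = _
      rw [← Algebra.smul_def, ← TensorProduct.smul_tmul, Algebra.smul_def, mul_one]
      rfl
    | add x y hx hy =>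
      obtain ⟨x', rfl⟩ := hx
      obtain ⟨y', rfl⟩ := hy
      exact ⟨x' + y', map_add _ _ _⟩
  have hker : ∀ k, ρ k = 0 → IsNilpotent k := by
    let N : Ideal (MvPolynomial σ O) := RingHom.ker (MvPolynomial.map (Ideal.Quotient.mk (nilradical O)))
    let f : C →+* K ⧸ N.map (algebraMap _ K) :=
      (Algebra.TensorProduct.lift (R := MvPolynomial σ O)
        ({ (RingHom.liftOfSurjective (MvPolynomial.map (Ideal.Quotient.mk (nilradical O)))
            (MvPolynomial.map_surjective _ Ideal.Quotient.mk_surjective)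
            ⟨algebraMap (MvPolynomial σ O) (K ⧸ N.map (algebraMap _ K)), fun p hp => by
              rw [RingHom.mem_ker, IsScalarTower.algebraMap_apply (MvPolynomial σ O) K,
                Ideal.Quotient.algebraMap_eq, Ideal.Quotient.eq_zero_iff_mem]
              exact Ideal.mem_map_of_mem _ hp⟩) with
          commutes' := fun p => by
            exact RingHom.liftOfRightInverse_comp_apply _ _ _ _ p } :
          MvPolynomial σ Or →ₐ[MvPolynomial σ O] K ⧸ N.map (algebraMap _ K))
        (IsScalarTower.toAlgHom (MvPolynomial σ O) K _) fun _ _ => Commute.all _ _).toRingHom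
    intro k hk
    have h1 : f (ρ k) = Ideal.Quotient.mk _ k := by
      change Algebra.TensorProduct.lift _ _ _ ((1 : MvPolynomial σ Or) ⊗ₜ k) = _
      rw [Algebra.TensorProduct.lift_tmul, map_one, one_mul]
      rfl
    rw [hk, map_zero] at h1
    refine mem_nilradical.1 ((Ideal.map_le_iff_le_comap.2 fun p hp => ?_ :
      N.map (algebraMap _ K) ≤ nilradical K) (Ideal.Quotient.eq_zero_iff_mem.1 h1.symm))
    refine mem_nilradical.2 (IsNilpotent.map (MvPolynomial.isNilpotent_iff.2 fun d => ?_) _)
    have h2 := congrArg (coeff d) (show MvPolynomial.map (Ideal.Quotient.mk (nilradical O)) p = 0 from hp)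
    rw [coeff_map, coeff_zero, Ideal.Quotient.eq_zero_iff_mem] at h2
    exact mem_nilradical.1 h2
  haveI : Nontrivial C := by
    rw [nontrivial_iff]
    refine ⟨ρ 1, ρ 0, fun h => ?_⟩
    rw [map_zero] at h
    exact not_isNilpotent_one (hker 1 h)
  haveI : IsLocalHom ρ := ⟨fun k hk => by
    obtain ⟨l, hl⟩ := hρs ↑(hk.unit⁻¹)
    have h1 : ρ (k * l - 1) = 0 := by rw [map_sub, map_mul, map_one, hl, IsUnit.mul_val_inv, sub_self]
    exact isUnit_of_mul_isUnit_left (by simpa using (hker _ h1).isUnit_add_one)⟩
  haveI : IsLocalRing C := IsLocalRing.of_surjective ρ hρs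
  let L' : List σ := L.map e
  have hgC : ρ g = ρ (KRoot.mk u') * (L'.map fun j => algebraMap (MvPolynomial σ Or) C (X j)).prod := by
    rw [hg, map_mul, map_list_prod, List.map_map, List.map_map]
    congr 2
    refine List.map_congr_left fun i _ => ?_
    change (1 : MvPolynomial σ Or) ⊗ₜ[MvPolynomial σ O] (algebraMap (MvPolynomial σ O) K (X (e i))) =
      (X (e i) : MvPolynomial σ Or) ⊗ₜ (1 : K)
    rw [Algebra.algebraMap_eq_smul_one (A := K), ← TensorProduct.smul_tmul, Algebra.smul_def, mul_one]
    exact congrArg (fun z => z ⊗ₜ[MvPolynomial σ O] (1 : K)) (MvPolynomial.map_X _ _)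
  let Cg := Localization.Away (ρ g)
  haveI : IsLocalization.Away ((L'.map fun j => algebraMap (MvPolynomial σ Or) C (X j)).prod) Cg := by
    refine IsLocalization.Away.of_associated ?_ (r := ρ g)
    rw [hgC]
    exact associated_unit_mul_left _ _ (hu'.map ρ)
  obtain ⟨hinj, hidem⟩ := idempotent_away (O := Or) (C := C) L' Cg
  let μ : Localization.Away g →+* Cg := IsLocalization.Away.map _ Cg ρ g
  have hμ : ∀ x, μ x = 0 → IsNilpotent x := by
    intro x hx
    obtain ⟨⟨k, ⟨_, m, rfl⟩⟩, hk⟩ := IsLocalization.surj (Submonoid.powers g) x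
    have h1 := congrArg μ hk
    rw [map_mul, hx, zero_mul] at h1
    have h2 : algebraMap C Cg (ρ k) = 0 := by
      have h4 : μ (algebraMap K (Localization.Away g) k) = algebraMap C Cg (ρ k) :=
        IsLocalization.map_eq (M := Submonoid.powers g) (T := Submonoid.powers (ρ g)) _ k
      exact h4.symm.trans h1.symm
    have h3 := (hker k ((map_eq_zero_iff _ hinj).1 h2)).map (algebraMap K (Localization.Away g))
    rw [← hk] at h3
    exact (IsUnit.isNilpotent_mul_unit_of_commute_iff
      (IsLocalization.map_units (Localization.Away g) (⟨g ^ m, m, rfl⟩ : Submonoid.powers g))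
      (Commute.all _ _)).1 h3
  refine ⟨?_, fun x hx => ?_⟩
  · haveI : Nontrivial Cg := hinj.nontrivial
    exact μ.domain_nontrivial
  rcases hidem (μ x) (by rw [← map_mul, hx]) with h | h
  · exact .inl (IsIdempotentElem.eq_zero_of_isNilpotent hx (hμ x h))
  · refine .inr (eq_of_isNilpotent_sub_of_isIdempotentElem hx IsIdempotentElem.one (hμ _ ?_))
    rw [map_sub, h, map_one, sub_self]

end

end Groth.L27.KummerSNC
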