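import Groth.Prelude.Def_SGA1t
import Groth.Prelude.Def_PiSp
import Groth.Agent.L27.KummerSNC.Connected
import Groth.Agent.L27.SGA1.FEtFaithful
import Mathlib.RingTheory.RootsOfUnity.AlgebraicallyClosed
import Mathlib.RingTheory.Henselian

/-!
# The Kummer cover of the punctured strict localization is Galois
-/

set_option autoImplicit false
set_option linter.style.haveILetI false
set_option backward.isDefEq.respectTransparency.types false

universe u

open CategoryTheory Limits AlgebraicGeometry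

namespace Groth.L27.KummerSNC

/-- In a strictly henselian local ring there are all roots of unity of order prime to the residue
characteristic. -/
theorem exists_primitiveRoot (R : Type u) [CommRing R] [HenselianLocalRing R]
    [IsSepClosed (IsLocalRing.ResidueField R)] (n : ℕ) (hn1 : 1 ≤ n) (hn : IsUnit (n : R)) :
    ∃ ζ : R, ζ ^ n = 1 ∧ ∀ l, 0 < l → l < n → IsUnit (ζ ^ l - 1) := by
  have hnk : (n : IsLocalRing.ResidueField R) ≠ 0 := by
    rw [← map_natCast (IsLocalRing.residue R)]; exact (hn.map (IsLocalRing.residue R)).ne_zero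
  haveI : NeZero (n : IsLocalRing.ResidueField R) := ⟨hnk⟩
  haveI : NeZero n := ⟨by omega⟩
  obtain ⟨z, hz⟩ :=
    HasEnoughRootsOfUnity.exists_primitiveRoot (IsLocalRing.ResidueField R) n
  obtain ⟨z₀, rfl⟩ := IsLocalRing.residue_surjective z
  obtain ⟨ζ, hζ, hζz⟩ := HenselianLocalRing.is_henselian (Polynomial.X ^ n - 1)
    (by simpa using Polynomial.monic_X_pow_sub_C (1 : R) (by omega : n ≠ 0)) z₀
    (by
      rw [← IsLocalRing.residue_eq_zero_iff]
      simp [hz.pow_eq_one])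
    (by
      simp only [Polynomial.derivative_sub, Polynomial.derivative_one, sub_zero,
        Polynomial.derivative_X_pow, Polynomial.eval_mul, Polynomial.eval_C, Polynomial.eval_pow,
        Polynomial.eval_X]
      refine hn.mul (IsUnit.pow _ ?_)
      by_contra h
      have h0 : IsLocalRing.residue R z₀ = 0 := (IsLocalRing.residue_eq_zero_iff z₀).2 h
      exact hz.ne_zero (by omega) h0)
  have hres : IsLocalRing.residue R ζ = IsLocalRing.residue R z₀ := Ideal.Quotient.eq.2 hζz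
  refine ⟨ζ, by simpa [Polynomial.IsRoot, sub_eq_zero] using hζ, fun l hl hln => ?_⟩
  by_contra h
  have h0 := (IsLocalRing.residue_eq_zero_iff _).2 h
  rw [map_sub, map_pow, map_one, hres, sub_eq_zero] at h0
  exact absurd (Nat.le_of_dvd hl (hz.dvd_of_pow_eq_one l h0)) (by omega)

/-- The `n`-th roots of unity of `R` are those of every field receiving `R`. -/
theorem bijective_map_rootsOfUnity (R : Type u) [CommRing R] [HenselianLocalRing R]
    [IsSepClosed (IsLocalRing.ResidueField R)] (n : ℕ) (hn1 : 1 ≤ n) (hn : IsUnit (n : R))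
    {Ω : Type u} [Field Ω] (η : R →+* Ω) :
    (∀ r : Ω, r ^ n = 1 → ∃ ζ : rootsOfUnity n R, η ((ζ : Rˣ) : R) = r) ∧
      ∀ ζ : rootsOfUnity n R, η ((ζ : Rˣ) : R) = 1 → ζ = 1 := by
  obtain ⟨z, hz, hu⟩ := exists_primitiveRoot R n hn1 hn
  haveI : NeZero n := ⟨by omega⟩
  have hprim : ∀ {T : Type u} [CommRing T] [Nontrivial T] (g : R →+* T), IsPrimitiveRoot (g z) n := by
    intro T _ _ g
    refine (IsPrimitiveRoot.iff (by omega)).2 ⟨by rw [← map_pow, hz, map_one], fun l hl0 hln h => ?_⟩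
    refine ((hu l hl0 hln).map g).ne_zero ?_
    rw [map_sub, map_pow, map_one, h, sub_self]
  refine ⟨fun r hr => ?_, fun ζ hζ => ?_⟩
  · obtain ⟨l, -, rfl⟩ := (hprim η).eq_pow_of_pow_eq_one hr
    refine ⟨rootsOfUnity.mkOfPowEq (z ^ l) (by rw [← pow_mul, mul_comm, pow_mul, hz, one_pow]), ?_⟩
    rw [rootsOfUnity.val_mkOfPowEq_coe, map_pow]
  · by_contra hne
    have hζn : ((ζ : Rˣ) : R) ^ n = 1 := by
      rw [← Units.val_pow_eq_pow_val, (mem_rootsOfUnity n (ζ : Rˣ)).1 ζ.2, Units.val_one]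
    obtain ⟨l, hln, hl⟩ := (hprim (IsLocalRing.residue R)).eq_pow_of_pow_eq_one
      (show IsLocalRing.residue R ((ζ : Rˣ) : R) ^ n = 1 by rw [← map_pow, hζn, map_one])
    have hsum : IsUnit (∑ i ∈ Finset.range n, ((ζ : Rˣ) : R) ^ i) → ((ζ : Rˣ) : R) = 1 := fun h =>
      sub_eq_zero.1 (h.mul_right_eq_zero.1 (by rw [geom_sum_mul, hζn, sub_self]))
    rcases Nat.eq_zero_or_pos l with rfl | hl0
    · rw [pow_zero] at hl
      refine hne (Subtype.ext (Units.ext (hsum ?_)))
      by_contra h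
      have h0 := (IsLocalRing.residue_eq_zero_iff _).2 h
      simp only [map_sum, map_pow, ← hl, one_pow, Finset.sum_const, Finset.card_range, nsmul_eq_mul,
        mul_one] at h0
      rw [← map_natCast (IsLocalRing.residue R)] at h0
      exact (hn.map (IsLocalRing.residue R)).ne_zero h0
    · have h1 : IsUnit (((ζ : Rˣ) : R) - 1) := by
        by_contra h
        have h0 := (IsLocalRing.residue_eq_zero_iff _).2 h
        rw [map_sub, map_one, ← hl, sub_eq_zero] at h0
        exact absurd (Nat.le_of_dvd hl0 ((hprim (IsLocalRing.residue R)).dvd_of_pow_eq_one l h0))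
          (by omega)
      exact (h1.map η).ne_zero (by rw [map_sub, map_one, hζ, sub_self])

section

variable {R : Type u} [CommRing R] {ι : Type} (a : ι → R) (n : ι → ℕ)

/-- The class of `T_i`. -/
noncomputable abbrev root (i : ι) : SGA1t.kummer R a n := Ideal.Quotient.mk _ (MvPolynomial.X i)

theorem root_pow (i : ι) : root a n i ^ n i = algebraMap R _ (a i) := by
  rw [← map_pow]
  exact Ideal.Quotient.eq.2 (Ideal.subset_span ⟨i, rfl⟩)

theorem kummer_ringHom_ext {T : Type u} [CommRing T] {f g : SGA1t.kummer R a n →+* T}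
    (hC : f.comp (algebraMap R _) = g.comp (algebraMap R _)) (hX : ∀ i, f (root a n i) = g (root a n i)) :
    f = g :=
  Ideal.Quotient.ringHom_ext (MvPolynomial.ringHom_ext (fun r => RingHom.congr_fun hC r) hX)

theorem twist_root (ζ : ∀ i, rootsOfUnity (n i) R) (i : ι) :
    SGA1t.kummerTwist R a n ζ (root a n i) =
      algebraMap R _ (((ζ i : Rˣ) : R)) * root a n i := by
  rw [SGA1t.kummerTwist, root, Ideal.Quotient.lift_mk]
  simp only [RingHom.comp_apply, AlgHom.toRingHom_eq_coe, RingHom.coe_coe, MvPolynomial.aeval_X, map_mul]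
  rfl

theorem twist_comp_algebraMap (ζ : ∀ i, rootsOfUnity (n i) R) :
    (SGA1t.kummerTwist R a n ζ).comp (algebraMap R (SGA1t.kummer R a n)) = algebraMap R _ := by
  refine RingHom.ext fun r => ?_
  change SGA1t.kummerTwist R a n ζ (Ideal.Quotient.mk _ (MvPolynomial.C r)) = _
  rw [SGA1t.kummerTwist, Ideal.Quotient.lift_mk]
  simp only [RingHom.comp_apply, AlgHom.toRingHom_eq_coe, RingHom.coe_coe]
  erw [MvPolynomial.aeval_C]
  rfl

theorem twist_algebraMap (ζ : ∀ i, rootsOfUnity (n i) R) (r : R) :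
    SGA1t.kummerTwist R a n ζ (algebraMap R _ r) = algebraMap R _ r :=
  RingHom.congr_fun (twist_comp_algebraMap a n ζ) r

theorem twist_mul (ζ ξ : ∀ i, rootsOfUnity (n i) R) :
    SGA1t.kummerTwist R a n (ζ * ξ) =
      (SGA1t.kummerTwist R a n ξ).comp (SGA1t.kummerTwist R a n ζ) := by
  refine kummer_ringHom_ext a n ?_ fun i => ?_
  · rw [RingHom.comp_assoc, twist_comp_algebraMap, twist_comp_algebraMap, twist_comp_algebraMap]
  · rw [RingHom.comp_apply, twist_root, twist_root, map_mul, twist_algebraMap, twist_root, ← mul_assoc,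
      ← map_mul]
    rfl

theorem twist_one : SGA1t.kummerTwist R a n 1 = RingHom.id _ := by
  refine kummer_ringHom_ext a n ?_ fun i => ?_
  · rw [twist_comp_algebraMap]; rfl
  · rw [twist_root]
    simp

end

/-- The automorphism of an open subscheme of `Spec K` over `U` attached to a twist. -/
theorem exists_galois {R : Type u} [CommRing R] [HenselianLocalRing R]
    [IsSepClosed (IsLocalRing.ResidueField R)] {O σ : Type u} [CommRing O]
    [Algebra (MvPolynomial σ O) R] [Algebra.WeaklyEtale (MvPolynomial σ O) R] {ι : Type}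
    (a : ι → R) (n : ι → ℕ) (e : ι → σ) (he : Function.Injective e)
    (ha : ∀ i, algebraMap (MvPolynomial σ O) R (MvPolynomial.X (e i)) = a i)
    (ham : ∀ i, a i ∈ IsLocalRing.maximalIdeal R) (hn1 : ∀ i, 1 ≤ n i)
    (hnu : ∀ i, IsUnit ((n i : ℕ) : R)) (U₁ : (Spec (CommRingCat.of R)).Opens) (G : R)
    (hU : (U₁ : Set (Spec (CommRingCat.of R))) = ((PrimeSpectrum.basicOpen G : TopologicalSpace.Opens (PrimeSpectrum R)) : Set (PrimeSpectrum R)))
    (L : List ι) (hL : ∀ i, i ∈ L) (v : Rˣ) (hG : G = ↑v * (L.map a).prod) :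
    letI π : Spec (CommRingCat.of (SGA1t.kummer R a n)) ⟶ Spec (CommRingCat.of R) :=
      Spec.map (CommRingCat.ofHom (algebraMap R (SGA1t.kummer R a n)))
    ∀ [hF : IsFinite (π ∣_ U₁)] [hE : Etale (π ∣_ U₁)],
      PiSp.IsGaloisCover (MorphismProperty.Over.mk ⊤ (π ∣_ U₁) ⟨hF, hE⟩) ∧
      ∃ θ : ((i : ι) → ↥(rootsOfUnity (n i) R)) ≃*
          Aut (MorphismProperty.Over.mk ⊤ (π ∣_ U₁) ⟨hF, hE⟩ : FEt.Cat (U₁ : Scheme.{u})),
        ∀ ζ, (θ ζ).hom.left ≫ (π ⁻¹ᵁ U₁).ι =
          (π ⁻¹ᵁ U₁).ι ≫ Spec.map (CommRingCat.ofHom (SGA1t.kummerTwist R a n ζ)) := by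
  intro hF hE
  classical
  let K := SGA1t.kummer R a n
  let π : Spec (CommRingCat.of K) ⟶ Spec (CommRingCat.of R) :=
    Spec.map (CommRingCat.ofHom (algebraMap R K))
  let V : (Spec (CommRingCat.of K)).Opens := π ⁻¹ᵁ U₁
  let Z : FEt.Cat (U₁ : Scheme.{u}) := MorphismProperty.Over.mk ⊤ (π ∣_ U₁) ⟨hF, hE⟩
  let g : K := algebraMap R K G
  -- the open is connected
  have hVset : (V : Set (Spec (CommRingCat.of K))) = ((PrimeSpectrum.basicOpen g : TopologicalSpace.Opens (PrimeSpectrum K)) : Set (PrimeSpectrum K)) := by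
    change π ⁻¹' (U₁ : Set (Spec (CommRingCat.of R))) = _
    rw [hU]
    rfl
  obtain ⟨hnt, hidem⟩ := idempotent_kummer (O := O) a n e he hn1 ha ham g
    (L.flatMap fun i => List.replicate (n i) i) (Units.map (algebraMap R K).toMonoidHom v) (by
      change algebraMap R K G = _
      rw [hG, map_mul, map_list_prod, List.map_map]
      congr 1
      clear hL hG
      induction L with
      | nil => simp
      | cons i L ih =>
        rw [List.flatMap_cons, List.map_append, List.prod_append, List.map_cons, List.prod_cons, ih,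
          List.map_replicate, List.prod_replicate]
        rw [show Ideal.Quotient.mk _ (MvPolynomial.X i) ^ n i = algebraMap R K (a i) from root_pow a n i]
        rfl)
  haveI hVc : ConnectedSpace ↥V := by
    haveI := hnt
    haveI : ConnectedSpace (PrimeSpectrum (Localization.Away g)) := by
      rw [connectedSpace_iff_clopen]
      refine ⟨inferInstance, fun s hs => ?_⟩
      obtain ⟨x, hx, rfl⟩ := PrimeSpectrum.isClopen_iff.1 hs
      rcases hidem x hx with rfl | rfl
      · exact .inl (by rw [PrimeSpectrum.basicOpen_zero]; rfl)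
      · exact .inr (by rw [PrimeSpectrum.basicOpen_one]; rfl)
    refine isConnected_iff_connectedSpace.1 ?_
    rw [hVset, ← PrimeSpectrum.localization_away_comap_range (Localization.Away g) g]
    exact isConnected_range (PrimeSpectrum.continuous_comap _)
  have hZc : ConnectedSpace Z.left := hVc
  -- the automorphisms
  let tw : (∀ i, rootsOfUnity (n i) R) → (Spec (CommRingCat.of K) ⟶ Spec (CommRingCat.of K)) :=
    fun ζ => Spec.map (CommRingCat.ofHom (SGA1t.kummerTwist R a n ζ))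
  have htwπ : ∀ ζ, tw ζ ≫ π = π := fun ζ => by
    change Spec.map _ ≫ Spec.map _ = Spec.map _
    rw [← Spec.map_comp, ← CommRingCat.ofHom_comp, twist_comp_algebraMap]
  have hrange : ∀ ζ, Set.range (V.ι ≫ tw ζ) ⊆ Set.range V.ι := by
    intro ζ
    rw [Scheme.Opens.range_ι]
    rintro _ ⟨z, rfl⟩
    change π ((V.ι ≫ tw ζ) z) ∈ U₁
    rw [← Scheme.Hom.comp_apply, Category.assoc, htwπ, Scheme.Hom.comp_apply]
    exact z.2
  let am : (∀ i, rootsOfUnity (n i) R) → ((V : Scheme.{u}) ⟶ (V : Scheme.{u})) :=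
    fun ζ => IsOpenImmersion.lift V.ι (V.ι ≫ tw ζ) (hrange ζ)
  have ham' : ∀ ζ, am ζ ≫ V.ι = V.ι ≫ tw ζ := fun ζ => IsOpenImmersion.lift_fac _ _ _
  have ham1 : am 1 = 𝟙 _ := by
    rw [← cancel_mono V.ι, ham', Category.id_comp]
    change V.ι ≫ Spec.map _ = _
    rw [twist_one, CommRingCat.ofHom_id, Spec.map_id, Category.comp_id]
  have hamm : ∀ ζ ξ, am (ζ * ξ) = am ξ ≫ am ζ := fun ζ ξ => by
    rw [← cancel_mono V.ι, ham', Category.assoc, ham', ← Category.assoc, ham', Category.assoc]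
    change V.ι ≫ Spec.map _ = V.ι ≫ Spec.map _ ≫ Spec.map _
    rw [← Spec.map_comp, ← CommRingCat.ofHom_comp, twist_mul]
  have hamw : ∀ ζ, am ζ ≫ Z.hom = Z.hom := fun ζ => by
    rw [← cancel_mono U₁.ι]
    change (am ζ ≫ (π ∣_ U₁)) ≫ U₁.ι = (π ∣_ U₁) ≫ U₁.ι
    rw [Category.assoc, morphismRestrict_ι, ← Category.assoc, ham', Category.assoc, htwπ]
  let au : (∀ i, rootsOfUnity (n i) R) →* Aut Z :=
    { toFun := fun ζ =>
        { hom := MorphismProperty.Over.homMk (am ζ) (hamw ζ)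
          inv := MorphismProperty.Over.homMk (am ζ⁻¹) (hamw ζ⁻¹)
          hom_inv_id := MorphismProperty.Over.Hom.ext (by
            change am ζ ≫ am ζ⁻¹ = 𝟙 _
            rw [← hamm, inv_mul_cancel, ham1])
          inv_hom_id := MorphismProperty.Over.Hom.ext (by
            change am ζ⁻¹ ≫ am ζ = 𝟙 _
            rw [← hamm, mul_inv_cancel, ham1]) }
      map_one' := Iso.ext (MorphismProperty.Over.Hom.ext ham1)
      map_mul' := fun ζ ξ => Iso.ext (MorphismProperty.Over.Hom.ext (hamm ζ ξ)) }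
  -- geometric points
  have hpt : ∀ (Ω : Type u) [Field Ω] (s : Spec (CommRingCat.of Ω) ⟶ (V : Scheme.{u})) (χ : K →+* Ω),
      s ≫ V.ι = Spec.map (CommRingCat.ofHom χ) → ∀ i, χ (root a n i) ≠ 0 := by
    intro Ω _ s χ hs i hi
    let z : Spec (CommRingCat.of Ω) := (default : PrimeSpectrum Ω)
    have hz : (s ≫ V.ι) z ∈ (V : Set (Spec (CommRingCat.of K))) := by
      rw [Scheme.Hom.comp_apply]; exact (s z).2
    rw [hs, hVset] at hz
    have hg0 : χ g = 0 := by
      obtain ⟨t, ht⟩ := List.dvd_prod (List.mem_map.2 ⟨i, hL i, rfl⟩ : a i ∈ L.map a)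
      change χ (algebraMap R K G) = 0
      rw [hG, ht, map_mul, map_mul, map_mul, map_mul, ← root_pow, map_pow, hi,
        zero_pow (Nat.one_le_iff_ne_zero.1 (hn1 i)), zero_mul, mul_zero]
    exact hz (by
      change χ g ∈ z.asIdeal
      rw [hg0]; exact zero_mem _)
  have hex : ∀ (Ω : Type u) [Field Ω] (s : Spec (CommRingCat.of Ω) ⟶ (V : Scheme.{u})),
      ∃ χ : K →+* Ω, s ≫ V.ι = Spec.map (CommRingCat.ofHom χ) := fun Ω _ s =>
    ⟨(Spec.preimage (s ≫ V.ι)).hom, by rw [CommRingCat.ofHom_hom, Spec.map_preimage]⟩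
  have htwhom : ∀ (Ω : Type u) [Field Ω] (s : Spec (CommRingCat.of Ω) ⟶ (V : Scheme.{u})) (χ : K →+* Ω),
      s ≫ V.ι = Spec.map (CommRingCat.ofHom χ) → ∀ ζ,
        (s ≫ am ζ) ≫ V.ι = Spec.map (CommRingCat.ofHom (χ.comp (SGA1t.kummerTwist R a n ζ))) := by
    intro Ω _ s χ hs ζ
    rw [Category.assoc, ham', ← Category.assoc, hs, CommRingCat.ofHom_comp, Spec.map_comp]
  have htrans : ∀ (Ω : Type u) [Field Ω] (s t : Spec (CommRingCat.of Ω) ⟶ (V : Scheme.{u})),
      s ≫ Z.hom = t ≫ Z.hom → ∃ ζ, s ≫ am ζ = t := by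
    intro Ω _ s t hst
    obtain ⟨χ, hχ⟩ := hex Ω s
    obtain ⟨χ', hχ'⟩ := hex Ω t
    have hbase : χ.comp (algebraMap R K) = χ'.comp (algebraMap R K) := by
      have h1 := congrArg (· ≫ U₁.ι) hst
      change (s ≫ (π ∣_ U₁)) ≫ U₁.ι = (t ≫ (π ∣_ U₁)) ≫ U₁.ι at h1
      rw [Category.assoc, Category.assoc, morphismRestrict_ι, ← Category.assoc, ← Category.assoc, hχ,
        hχ'] at h1
      change Spec.map _ ≫ Spec.map _ = Spec.map _ ≫ Spec.map _ at h1
      rw [← Spec.map_comp, ← Spec.map_comp] at h1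
      exact congrArg CommRingCat.Hom.hom (Spec.map_injective h1)
    have hr : ∀ i, ∃ ζ : rootsOfUnity (n i) R,
        χ (algebraMap R K ((ζ : Rˣ) : R)) = χ' (root a n i) / χ (root a n i) := by
      intro i
      refine (bijective_map_rootsOfUnity R (n i) (hn1 i) (hnu i) (χ.comp (algebraMap R K))).1 _ ?_
      rw [div_pow, ← map_pow χ', ← map_pow χ, root_pow]
      change χ'.comp (algebraMap R K) (a i) / χ.comp (algebraMap R K) (a i) = 1
      rw [← hbase, div_self]
      change χ (algebraMap R K (a i)) ≠ 0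
      rw [← root_pow, map_pow]
      exact pow_ne_zero _ (hpt Ω s χ hχ i)
    choose ζ hζ using hr
    refine ⟨ζ, ?_⟩
    rw [← cancel_mono V.ι, htwhom Ω s χ hχ ζ, hχ']
    congr 2
    refine kummer_ringHom_ext a n ?_ fun i => ?_
    · rw [RingHom.comp_assoc, twist_comp_algebraMap, hbase]
    · rw [RingHom.comp_apply, twist_root, map_mul, hζ, div_mul_cancel₀ _ (hpt Ω s χ hχ i)]
  have hfree : ∀ (Ω : Type u) [Field Ω] (s : Spec (CommRingCat.of Ω) ⟶ (V : Scheme.{u})) ζ,
      s ≫ am ζ = s → ζ = 1 := by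
    intro Ω _ s ζ hs
    obtain ⟨χ, hχ⟩ := hex Ω s
    have h1 := htwhom Ω s χ hχ ζ
    rw [hs, hχ] at h1
    have h2 := congrArg CommRingCat.Hom.hom (Spec.map_injective h1)
    funext i
    refine (bijective_map_rootsOfUnity R (n i) (hn1 i) (hnu i) (χ.comp (algebraMap R K))).2 _ ?_
    have h3 := DFunLike.congr_fun h2 (root a n i)
    change χ (root a n i) = χ (SGA1t.kummerTwist R a n ζ (root a n i)) at h3
    rw [twist_root, map_mul] at h3
    exact mul_right_cancel₀ (hpt Ω s χ hχ i) (h3.symm.trans (one_mul _).symm)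
  -- a base geometric point
  obtain ⟨z₀⟩ : Nonempty ↥(V : Scheme.{u}) := hVc.toNonempty
  let Ω₀ := AlgebraicClosure ((V : Scheme.{u}).residueField z₀)
  let s₀ : Spec (CommRingCat.of Ω₀) ⟶ (V : Scheme.{u}) :=
    Spec.map (CommRingCat.ofHom (algebraMap ((V : Scheme.{u}).residueField z₀) Ω₀)) ≫
      (V : Scheme.{u}).fromSpecResidueField z₀
  have hinj : Function.Injective au := by
    rw [injective_iff_map_eq_one]
    intro ζ hζ
    refine hfree Ω₀ s₀ ζ ?_
    have h1 : am ζ = 𝟙 _ := congrArg (fun τ : Aut Z => τ.hom.left) hζ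
    rw [h1, Category.comp_id]
  have hsurj : Function.Surjective au := by
    intro τ
    obtain ⟨ζ, hζ⟩ := htrans Ω₀ s₀ (s₀ ≫ τ.hom.left) (by
      rw [Category.assoc]
      exact (congrArg (s₀ ≫ ·) (MorphismProperty.Over.w τ.hom)).symm)
    refine ⟨ζ, Iso.ext ?_⟩
    obtain ⟨C, hC, hall, hsub⟩ := Groth.L27.SGA1Conn.exists_clopen (au ζ).hom τ.hom
    refine hall ?_
    haveI := hZc
    refine IsClopen.eq_univ hC ⟨s₀ (default : PrimeSpectrum Ω₀), hsub _ s₀ hζ ⟨_, rfl⟩⟩
  refine ⟨⟨hZc, fun Ω _ _ ξ s t => ?_⟩, MulEquiv.ofBijective au ⟨hinj, hsurj⟩, fun ζ => ham' ζ⟩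
  obtain ⟨ζ, hζ⟩ := htrans Ω s.1 t.1 (s.2.trans t.2.symm)
  exact ⟨au ζ, Subtype.ext hζ⟩

end Groth.L27.KummerSNC
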