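import Groth.Prelude.Def_SGA1t
import Mathlib.RingTheory.Smooth.StandardSmoothCotangent
import Mathlib.RingTheory.IntegralClosure.Algebra.Basic

/-!
# Kummer algebras: finite, and etale away from the divisor (after `S2921`, for a finite index type)
-/

set_option autoImplicit false
set_option linter.style.haveILetI false

universe u

open MvPolynomial

namespace Groth.L27.KummerSNC

variable {A : Type u} [CommRing A] {ι : Type} [Fintype ι] (f : ι → A) (n : ι → ℕ)

theorem X_pow_eq' (i : ι) :
    (Ideal.Quotient.mk _ (X i) : SGA1t.kummer A f n) ^ n i = algebraMap A _ (f i) := by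
  rw [← map_pow]
  exact Ideal.Quotient.eq.2 (Ideal.subset_span ⟨i, rfl⟩)

omit [Fintype ι] in
theorem finite_kummer [Finite ι] (hn : ∀ i, 1 ≤ n i) : Module.Finite A (SGA1t.kummer A f n) := by
  have hint : Algebra.IsIntegral A (SGA1t.kummer A f n) := by
    refine ⟨fun b => ?_⟩
    obtain ⟨P, rfl⟩ := Ideal.Quotient.mk_surjective b
    induction P using MvPolynomial.induction_on with
    | C a =>
      exact (isIntegral_algebraMap (R := A) (A := SGA1t.kummer A f n) (x := a))
    | add p q hp hq => rw [map_add]; exact hp.add hq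
    | mul_X p i hp =>
      haveI := Fintype.ofFinite ι
      rw [map_mul]
      refine hp.mul (IsIntegral.of_pow (n := n i) (by have := hn i; omega) ?_)
      rw [X_pow_eq' f n]
      exact isIntegral_algebraMap
  exact Algebra.IsIntegral.finite

theorem etale_kummer_away' (hunit : ∀ i, IsUnit ((n i : ℕ) : A)) (hn : ∀ i, 1 ≤ n i)
    (F : A) (hF : ∀ i, f i ∣ F)
    (L BF : Type u) [CommRing L] [Algebra A L] [IsLocalization.Away F L]
    [CommRing BF] [Algebra (SGA1t.kummer A f n) BF]
    [IsLocalization.Away (algebraMap A (SGA1t.kummer A f n) F) BF]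
    [Algebra A BF] [IsScalarTower A (SGA1t.kummer A f n) BF]
    [Algebra L BF] [IsScalarTower A L BF] : Algebra.Etale L BF := by
  classical
  let v : ι → MvPolynomial ι L := fun i => X i ^ n i - C (algebraMap A L (f i))
  let Q := MvPolynomial ι L ⧸ Ideal.span (Set.range v)
  let P := Algebra.PreSubmersivePresentation.naive (R := L) (v := v) (_root_.id) Function.injective_id
  have hXunit : ∀ i, IsUnit (Ideal.Quotient.mk (Ideal.span (Set.range v)) (X i)) := by
    intro i
    refine (isUnit_pow_iff (n := n i) (by have := hn i; omega)).mp ?_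
    have he : Ideal.Quotient.mk (Ideal.span (Set.range v)) (X i) ^ n i =
        Ideal.Quotient.mk _ (C (algebraMap A L (f i))) := by
      rw [← map_pow, Ideal.Quotient.eq]; exact Ideal.subset_span ⟨i, rfl⟩
    rw [he]
    refine (IsUnit.map C ?_).map _
    exact isUnit_of_dvd_unit (map_dvd _ (hF i))
      (IsLocalization.Away.algebraMap_isUnit F)
  have hjac : IsUnit P.jacobian := by
    have hM : P.jacobiMatrix = Matrix.diagonal fun i => (n i : MvPolynomial ι L) * X i ^ (n i - 1) := by
      ext i j
      rw [Algebra.PreSubmersivePresentation.jacobiMatrix_naive]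
      simp only [v, _root_.id, map_sub, pderiv_pow, pderiv_C, sub_zero, pderiv_X, Matrix.diagonal_apply]
      by_cases hij : i = j
      · subst hij; simp
      · simp [hij, Ne.symm hij]
    rw [Algebra.PreSubmersivePresentation.jacobian_eq_jacobiMatrix_det, hM, Matrix.det_diagonal, map_prod]
    refine IsUnit.prod_iff.mpr fun i _ => ?_
    change IsUnit (Ideal.Quotient.mk (Ideal.span (Set.range v)) ((n i : MvPolynomial ι L) * X i ^ (n i - 1)))
    rw [map_mul, map_pow]
    refine IsUnit.mul ?_ ((hXunit i).pow _)
    simpa using (hunit i).map (algebraMap A (MvPolynomial ι L ⧸ Ideal.span (Set.range v)))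
  let SP : Algebra.SubmersivePresentation L Q ι ι :=
    { toPreSubmersivePresentation := P, jacobian_isUnit := hjac }
  have : Algebra.IsStandardSmoothOfRelativeDimension 0 L Q :=
    SP.isStandardSmoothOfRelativeDimension (by simp [Algebra.Presentation.dimension])
  have : Algebra.Etale L Q := inferInstance
  let α : Q →ₐ[L] BF := Ideal.Quotient.liftₐ _
      (aeval fun i => algebraMap (SGA1t.kummer A f n) BF (Ideal.Quotient.mk _ (X i))) (by
    intro a ha
    rw [← RingHom.mem_ker]
    refine Ideal.span_le.mpr ?_ ha
    rintro _ ⟨i, rfl⟩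
    rw [SetLike.mem_coe, RingHom.mem_ker]
    simp only [v, map_sub, map_pow, aeval_X, aeval_C, ← IsScalarTower.algebraMap_apply A L BF]
    rw [← map_pow, X_pow_eq' f n, ← IsScalarTower.algebraMap_apply A (SGA1t.kummer A f n) BF, sub_self])
  let β0 : (SGA1t.kummer A f n) →ₐ[A] Q := Ideal.Quotient.liftₐ _
      (aeval fun i => Ideal.Quotient.mk (Ideal.span (Set.range v)) (X i)) (by
    intro a ha
    rw [← RingHom.mem_ker]
    refine Ideal.span_le.mpr ?_ ha
    rintro _ ⟨i, rfl⟩
    rw [SetLike.mem_coe, RingHom.mem_ker, map_sub, map_pow, aeval_X, aeval_C,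
      ← map_pow, IsScalarTower.algebraMap_apply A (MvPolynomial ι L) Q,
      Ideal.Quotient.algebraMap_eq, ← map_sub, Ideal.Quotient.eq_zero_iff_mem]
    exact Ideal.subset_span ⟨i, rfl⟩)
  have hu : IsUnit (β0.toRingHom (algebraMap A (SGA1t.kummer A f n) F)) := by
    rw [AlgHom.toRingHom_eq_coe, RingHom.coe_coe, β0.commutes, IsScalarTower.algebraMap_apply A L Q]
    exact (IsLocalization.Away.algebraMap_isUnit F).map _
  let β : BF →+* Q := IsLocalization.Away.lift (S := BF) (g := β0.toRingHom) (algebraMap A (SGA1t.kummer A f n) F) hu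
  have hβB : ∀ b : (SGA1t.kummer A f n), β (algebraMap (SGA1t.kummer A f n) BF b) = β0 b := fun b => IsLocalization.Away.lift_eq _ hu b
  have hβL : ∀ l : L, β (algebraMap L BF l) = algebraMap L Q l := by
    intro l
    refine RingHom.congr_fun (IsLocalization.ringHom_ext (Submonoid.powers F)
      (j := β.comp (algebraMap L BF)) (k := algebraMap L Q) (RingHom.ext fun a => ?_)) l
    simp only [RingHom.coe_comp, Function.comp_apply]
    rw [← IsScalarTower.algebraMap_apply A L BF, IsScalarTower.algebraMap_apply A (SGA1t.kummer A f n) BF, hβB,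
      β0.commutes, ← IsScalarTower.algebraMap_apply A L Q]
  let β' : BF →ₐ[L] Q := { β with commutes' := hβL }
  have hβα : β'.comp α = AlgHom.id L Q := by
    refine Ideal.Quotient.algHom_ext L (MvPolynomial.algHom_ext fun i => ?_)
    simp [α, β', hβB, β0]
    rfl
  have hαβ : α.comp β' = AlgHom.id L BF := by
    have h0 : (α.toRingHom.comp β0.toRingHom) = algebraMap (SGA1t.kummer A f n) BF := by
      refine Ideal.Quotient.ringHom_ext (MvPolynomial.ringHom_ext (fun a => ?_) fun i => ?_)
      · simp [α, β0, ← IsScalarTower.algebraMap_apply A (SGA1t.kummer A f n) BF,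
          IsScalarTower.algebraMap_apply A L Q, ← IsScalarTower.algebraMap_apply A L BF]
        exact IsScalarTower.algebraMap_apply A (SGA1t.kummer A f n) BF a
      · simp [α, β0]
        exact aeval_X _ i
    refine AlgHom.coe_ringHom_injective (IsLocalization.ringHom_ext
      (Submonoid.powers (algebraMap A (SGA1t.kummer A f n) F)) (RingHom.ext fun b => ?_))
    simpa [β', hβB] using RingHom.congr_fun h0 b
  exact Algebra.Etale.of_equiv (AlgEquiv.ofAlgHom α β' hαβ hβα)


/-- The Kummer algebra is etale over the base away from the divisor. -/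
theorem etale_kummer (hunit : ∀ i, IsUnit ((n i : ℕ) : A)) (hn : ∀ i, 1 ≤ n i) (F : A)
    (hF : ∀ i, f i ∣ F) :
    Algebra.Etale A (Localization.Away (algebraMap A (SGA1t.kummer A f n) F)) := by
  let BF := Localization.Away (algebraMap A (SGA1t.kummer A f n) F)
  let g : Localization.Away F →+* BF :=
    IsLocalization.Away.lift F (g := algebraMap A BF) (by
      rw [IsScalarTower.algebraMap_apply A (SGA1t.kummer A f n) BF]
      exact IsLocalization.Away.algebraMap_isUnit _)
  letI := g.toAlgebra
  haveI : IsScalarTower A (Localization.Away F) BF :=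
    IsScalarTower.of_algebraMap_eq fun a => (IsLocalization.Away.lift_eq F _ a).symm
  haveI := etale_kummer_away' f n hunit hn F hF (Localization.Away F) BF
  exact Algebra.Etale.comp A (Localization.Away F) BF

end Groth.L27.KummerSNC
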