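import Groth.Agent.L27.KummerSNC.Coords
import Groth.Agent.L27.KummerSNC.Connected
import Mathlib.RingTheory.DiscreteValuationRing.Basic
import Mathlib.RingTheory.MvPolynomial.Ideal
import Mathlib.RingTheory.Polynomial.UniqueFactorization

/-!
# Coordinates on the geometric fibres
-/

set_option autoImplicit false
set_option linter.style.haveILetI false
set_option backward.isDefEq.respectTransparency.types false

universe u

open MvPolynomial TensorProduct

namespace Groth.L27.KummerSNC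

section DVR

variable {Ω σ O : Type u} [Field Ω] [CommRing O] [IsDomain O] [IsDiscreteValuationRing O]
  [Algebra (MvPolynomial σ Ω) O] [Algebra.WeaklyEtale (MvPolynomial σ Ω) O]

theorem not_mem_span_X {i j : σ} (h : j ≠ i) :
    (X j : MvPolynomial σ Ω) ∉ Ideal.span {(X i : MvPolynomial σ Ω)} := fun hh => by
  classical
  obtain ⟨c, hc⟩ := Ideal.mem_span_singleton'.1 hh
  have h1 := congrArg (eval fun k => if k = i then (0 : Ω) else 1) hc
  simp [h] at h1

theorem span_X_isPrime (i : σ) : (Ideal.span {(X i : MvPolynomial σ Ω)}).IsPrime :=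
  (Ideal.span_singleton_prime (X_ne_zero i)).2 (MvPolynomial.X_prime)

theorem coord_maximalIdeal (i : σ)
    (hi : ¬ IsUnit (algebraMap (MvPolynomial σ Ω) O (X i))) :
    IsLocalRing.maximalIdeal O = Ideal.span {algebraMap (MvPolynomial σ Ω) O (X i)} := by
  classical
  set x := algebraMap (MvPolynomial σ Ω) O (X i) with hx
  have hx0 : x ≠ 0 := by
    intro h
    have h1 := Module.Flat.isSMulRegular_of_nonZeroDivisors (R := MvPolynomial σ Ω) (M := O) (r := X i)
      (mem_nonZeroDivisors_of_ne_zero (X_ne_zero i))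
    refine one_ne_zero (α := O) (h1 (?_ : (X i : MvPolynomial σ Ω) • (1 : O) = (X i : MvPolynomial σ Ω) • 0))
    rw [smul_zero, Algebra.smul_def, mul_one]
    exact h
  let J : Ideal (MvPolynomial σ Ω) := Ideal.span {X i}
  haveI : J.IsPrime := span_X_isPrime i
  have hJ : J.map (algebraMap _ O) = Ideal.span {x} := by rw [Ideal.map_span, Set.image_singleton]
  haveI : IsReduced (O ⧸ Ideal.span {x}) := by
    rw [← hJ]
    haveI : Algebra.WeaklyEtale (MvPolynomial σ Ω ⧸ J) ((MvPolynomial σ Ω ⧸ J) ⊗[MvPolynomial σ Ω] O) :=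
      inferInstance
    haveI : IsReduced ((MvPolynomial σ Ω ⧸ J) ⊗[MvPolynomial σ Ω] O) :=
      Groth.L20.isReduced_of_weaklyEtale (MvPolynomial σ Ω ⧸ J) ((MvPolynomial σ Ω ⧸ J) ⊗[MvPolynomial σ Ω] O)
    exact isReduced_of_injective (Algebra.TensorProduct.quotIdealMapEquivQuotTensor O J)
      (EquivLike.injective _)
  refine le_antisymm (fun z hz => ?_) ((Ideal.span_singleton_le_iff_mem _).2 hi)
  obtain ⟨ϖ, hϖ⟩ := IsDiscreteValuationRing.exists_irreducible O
  obtain ⟨k, u, hk⟩ := IsDiscreteValuationRing.eq_unit_mul_pow_irreducible hx0 hϖ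
  rw [hϖ.maximalIdeal_eq, Ideal.mem_span_singleton'] at hz
  obtain ⟨c, rfl⟩ := hz
  refine Ideal.Quotient.eq_zero_iff_mem.1 (IsReduced.eq_zero _ ⟨k, ?_⟩)
  rw [← map_pow, Ideal.Quotient.eq_zero_iff_mem, Ideal.mem_span_singleton]
  exact ⟨↑u⁻¹ * c ^ k, by rw [hk, mul_pow]; linear_combination (-(c ^ k * ϖ ^ k)) * u.mul_inv⟩

theorem coord_unique (i j : σ) (hi : ¬ IsUnit (algebraMap (MvPolynomial σ Ω) O (X i))) (hne : j ≠ i) :
    IsUnit (algebraMap (MvPolynomial σ Ω) O (X j)) := by
  by_contra hj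
  let J : Ideal (MvPolynomial σ Ω) := Ideal.span {X i}
  haveI : J.IsPrime := span_X_isPrime i
  have hJ : J.map (algebraMap _ O) = IsLocalRing.maximalIdeal O := by
    rw [Ideal.map_span, Set.image_singleton, ← coord_maximalIdeal i hi]
  have hreg := Module.Flat.isSMulRegular_of_nonZeroDivisors (R := MvPolynomial σ Ω ⧸ J)
    (M := (MvPolynomial σ Ω ⧸ J) ⊗[MvPolynomial σ Ω] O) (r := Ideal.Quotient.mk J (X j))
    (mem_nonZeroDivisors_of_ne_zero fun h => not_mem_span_X hne (Ideal.Quotient.eq_zero_iff_mem.1 h))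
  let e := Algebra.TensorProduct.quotIdealMapEquivQuotTensor O J
  have hone : (1 : (MvPolynomial σ Ω ⧸ J) ⊗[MvPolynomial σ Ω] O) = 0 := by
    refine hreg ?_
    change Ideal.Quotient.mk J (X j) • (1 : (MvPolynomial σ Ω ⧸ J) ⊗[MvPolynomial σ Ω] O) =
      Ideal.Quotient.mk J (X j) • 0
    rw [smul_zero, Algebra.TensorProduct.one_def, TensorProduct.smul_tmul', smul_eq_mul, mul_one,
      show Ideal.Quotient.mk J (X j) = (X j : MvPolynomial σ Ω) • (1 : MvPolynomial σ Ω ⧸ J)
        from Algebra.algebraMap_eq_smul_one (A := MvPolynomial σ Ω ⧸ J) (X j),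
      TensorProduct.smul_tmul, Algebra.smul_def, mul_one,
      ← Algebra.TensorProduct.quotIdealMapEquivQuotTensor_mk]
    rw [Ideal.Quotient.eq_zero_iff_mem.2 (hJ ▸ (IsLocalRing.mem_maximalIdeal _).2 hj), map_zero]
  have h1 : (1 : O ⧸ J.map (algebraMap _ O)) = 0 :=
    EquivLike.injective e (by rw [map_one, map_zero]; exact hone)
  rw [← map_one (Ideal.Quotient.mk _), Ideal.Quotient.eq_zero_iff_mem, hJ] at h1
  exact (IsLocalRing.mem_maximalIdeal _).1 h1 isUnit_one

end DVR

/-- Base change of coordinates along `O → Ω`. -/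
theorem isWE_baseChange {O A σ Ω : Type u} [CommRing O] [CommRing A] [CommRing Ω] [Algebra O A]
    [Algebra O Ω] (ψ : MvPolynomial σ O →+* A) (hC : ψ.comp C = algebraMap O A) (hψ : IsWE ψ) :
    IsWE (eval₂Hom (Algebra.TensorProduct.includeRight (R := O) (A := A) (B := Ω)).toRingHom
      fun j => ψ (X j) ⊗ₜ[O] (1 : Ω)) := by
  let e := eval₂Hom (Algebra.TensorProduct.includeRight (R := O) (A := A) (B := Ω)).toRingHom
    fun j => ψ (X j) ⊗ₜ[O] (1 : Ω)
  letI := ψ.toAlgebra
  letI := e.toAlgebra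
  letI : Algebra (MvPolynomial σ O) (MvPolynomial σ Ω) := (MvPolynomial.map (algebraMap O Ω)).toAlgebra
  haveI : Algebra.WeaklyEtale (MvPolynomial σ O) A := hψ
  haveI : IsScalarTower (MvPolynomial σ O) (MvPolynomial σ Ω) (A ⊗[O] Ω) := by
    refine IsScalarTower.of_algebraMap_eq' (R := MvPolynomial σ O) (S := MvPolynomial σ Ω) (A := A ⊗[O] Ω) (ringHom_ext (fun r => ?_) fun j => ?_)
    · change ψ (C r) ⊗ₜ[O] (1 : Ω) = e (MvPolynomial.map (algebraMap O Ω) (C r))
      rw [map_C, eval₂Hom_C, show ψ (C r) = algebraMap O A r from DFunLike.congr_fun hC r]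
      change _ = (1 : A) ⊗ₜ[O] algebraMap O Ω r
      rw [Algebra.algebraMap_eq_smul_one, Algebra.algebraMap_eq_smul_one, TensorProduct.smul_tmul]
    · change ψ (X j) ⊗ₜ[O] (1 : Ω) = e (MvPolynomial.map (algebraMap O Ω) (X j))
      rw [map_X, eval₂Hom_X']
  let iA : A →ₐ[MvPolynomial σ O] A ⊗[O] Ω :=
    { (Algebra.TensorProduct.includeLeftRingHom : A →+* A ⊗[O] Ω) with commutes' := fun _ => rfl }
  let G : MvPolynomial σ Ω ⊗[MvPolynomial σ O] A →ₐ[MvPolynomial σ Ω] A ⊗[O] Ω :=
    Algebra.TensorProduct.lift (Algebra.ofId _ _) iA fun _ _ => Commute.all _ _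
  letI : Algebra O (MvPolynomial σ Ω ⊗[MvPolynomial σ O] A) :=
    ((algebraMap (MvPolynomial σ O) _).comp (C : O →+* MvPolynomial σ O)).toAlgebra
  let fA : A →ₐ[O] MvPolynomial σ Ω ⊗[MvPolynomial σ O] A :=
    { (Algebra.TensorProduct.includeRight (R := MvPolynomial σ O)
        (A := MvPolynomial σ Ω) (B := A)).toRingHom with
      commutes' := fun r => by
        change (1 : MvPolynomial σ Ω) ⊗ₜ[MvPolynomial σ O] algebraMap O A r =
          algebraMap (MvPolynomial σ O) (MvPolynomial σ Ω ⊗[MvPolynomial σ O] A) (C r)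
        rw [← DFunLike.congr_fun hC r]
        exact ((Algebra.TensorProduct.includeRight (R := MvPolynomial σ O)
          (A := MvPolynomial σ Ω) (B := A)).commutes (C r)) }
  let fΩ : Ω →ₐ[O] MvPolynomial σ Ω ⊗[MvPolynomial σ O] A :=
    { (Algebra.TensorProduct.includeLeftRingHom : MvPolynomial σ Ω →+* _).comp (C : Ω →+* MvPolynomial σ Ω) with
      commutes' := fun r => by
        change (C (algebraMap O Ω r) : MvPolynomial σ Ω) ⊗ₜ[MvPolynomial σ O] (1 : A) =
          algebraMap (MvPolynomial σ O) (MvPolynomial σ Ω ⊗[MvPolynomial σ O] A) (C r)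
        rw [Algebra.TensorProduct.algebraMap_apply]
        exact congrArg (fun z => z ⊗ₜ[MvPolynomial σ O] (1 : A)) (map_C _ _).symm }
  let F : A ⊗[O] Ω →ₐ[O] MvPolynomial σ Ω ⊗[MvPolynomial σ O] A :=
    Algebra.TensorProduct.lift fA fΩ fun _ _ => Commute.all _ _
  have hFe : F.toRingHom.comp e = Algebra.TensorProduct.includeLeftRingHom := by
    refine ringHom_ext (fun w => ?_) fun j => ?_
    · change F (e (C w)) = (C w : MvPolynomial σ Ω) ⊗ₜ[MvPolynomial σ O] (1 : A)
      rw [eval₂Hom_C]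
      change F ((1 : A) ⊗ₜ[O] w) = _
      rw [Algebra.TensorProduct.lift_tmul, map_one, one_mul]
      rfl
    · change F (e (X j)) = (X j : MvPolynomial σ Ω) ⊗ₜ[MvPolynomial σ O] (1 : A)
      rw [eval₂Hom_X', Algebra.TensorProduct.lift_tmul, map_one, mul_one]
      change (1 : MvPolynomial σ Ω) ⊗ₜ[MvPolynomial σ O] (algebraMap (MvPolynomial σ O) A (X j)) = _
      rw [Algebra.algebraMap_eq_smul_one (A := A), ← TensorProduct.smul_tmul, Algebra.smul_def, mul_one]
      exact congrArg (fun z => z ⊗ₜ[MvPolynomial σ O] (1 : A)) (map_X _ _)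
  have hFG : ∀ z, F (G z) = z := by
    intro z
    induction z using TensorProduct.induction_on with
    | zero => rw [map_zero, map_zero]
    | tmul p a =>
      rw [Algebra.TensorProduct.lift_tmul, map_mul]
      change F (e p) * F (a ⊗ₜ[O] (1 : Ω)) = _
      rw [show F (e p) = p ⊗ₜ (1 : A) from DFunLike.congr_fun hFe p, Algebra.TensorProduct.lift_tmul,
        map_one, mul_one]
      change (p ⊗ₜ[MvPolynomial σ O] (1 : A)) * ((1 : MvPolynomial σ Ω) ⊗ₜ a) = _
      rw [Algebra.TensorProduct.tmul_mul_tmul, mul_one, one_mul]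
    | add x y hx hy => rw [map_add, map_add, hx, hy]
  have hGF : ∀ z, G (F z) = z := by
    intro z
    induction z using TensorProduct.induction_on with
    | zero => rw [map_zero, map_zero]
    | tmul a w =>
      rw [Algebra.TensorProduct.lift_tmul, map_mul]
      change G ((1 : MvPolynomial σ Ω) ⊗ₜ a) * G ((C w : MvPolynomial σ Ω) ⊗ₜ (1 : A)) = _
      rw [Algebra.TensorProduct.lift_tmul, Algebra.TensorProduct.lift_tmul, map_one, one_mul, map_one,
        mul_one]
      change (a ⊗ₜ[O] (1 : Ω)) * e (C w) = _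
      rw [eval₂Hom_C]
      change (a ⊗ₜ[O] (1 : Ω)) * ((1 : A) ⊗ₜ[O] w) = _
      rw [Algebra.TensorProduct.tmul_mul_tmul, mul_one, one_mul]
    | add x y hx hy => rw [map_add, map_add, hx, hy]
  exact weaklyEtale_of_algEquiv (A := MvPolynomial σ Ω)
    (AlgEquiv.ofBijective G ⟨Function.LeftInverse.injective hFG, fun x => ⟨F x, hGF x⟩⟩)

end Groth.L27.KummerSNC
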