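import Groth.Prelude.Def_EtRam
import Mathlib.RingTheory.Unramified.Field
import Mathlib.RingTheory.Artinian.Module
import Mathlib.RingTheory.Algebraic.Integral
import Mathlib.RingTheory.IntegralClosure.Algebra.Basic
import Mathlib.FieldTheory.SeparableClosure
import Mathlib.NumberTheory.RamificationInertia.Ramification
import Mathlib.RingTheory.DiscreteValuationRing.Basic

/-!
# Kummer extensions of a discrete valuation are tame
-/

set_option autoImplicit false
set_option linter.style.haveILetI false
set_option backward.isDefEq.respectTransparency.types false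

universe u

open IsLocalRing

namespace Groth.L27.KummerSNC

/-- In a reduced Artinian ring every element is killed by an element congruent to one modulo it. -/
theorem exists_mul_one_sub_eq_zero {R : Type u} [CommRing R] [IsReduced R] [IsArtinianRing R] (y : R) :
    ∃ z : R, y * (1 - y * z) = 0 := by
  obtain ⟨n, z, hz⟩ := IsArtinian.exists_pow_succ_smul_dvd y (1 : R)
  rw [smul_eq_mul, smul_eq_mul, mul_one, Nat.succ_eq_add_one, pow_succ] at hz
  refine ⟨z, IsReduced.eq_zero _ ⟨n + 1, ?_⟩⟩
  rw [mul_pow, pow_succ (1 - y * z) n, pow_succ y n]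
  linear_combination (-(y * (1 - y * z) ^ n)) * hz

/-- An algebra over a field generated by zeros and roots of units of order prime to the
characteristic is unramified. -/
theorem formallyUnramified_of_roots {k R : Type u} [Field k] [CommRing R] [Algebra k R]
    (s : Set R) (hs : Algebra.adjoin k s = ⊤)
    (h : ∀ x ∈ s, x = 0 ∨ ∃ (m : ℕ) (c : k), (m : k) ≠ 0 ∧ c ≠ 0 ∧ x ^ m = algebraMap k R c) :
    Algebra.FormallyUnramified k R := by
  constructor
  have h0 : ∀ x : R, KaehlerDifferential.D k R x = 0 := by
    intro x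
    have hx : x ∈ Algebra.adjoin k s := by rw [hs]; trivial
    refine Derivation.eqOn_adjoin (D1 := KaehlerDifferential.D k R) (D2 := 0) (fun y hy => ?_) hx
    rcases h y hy with rfl | ⟨m, c, hm, hc, hyc⟩
    · simp
    · have hm0 : m ≠ 0 := fun h0 => hm (by simp [h0])
      obtain ⟨l, rfl⟩ := Nat.exists_eq_succ_of_ne_zero hm0
      have h1 := congrArg (KaehlerDifferential.D k R) hyc
      rw [Derivation.leibniz_pow, Derivation.map_algebraMap, Nat.succ_sub_one,
        ← Nat.cast_smul_eq_nsmul R, smul_smul] at h1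
      have hu : IsUnit (((l + 1 : ℕ) : R) * y ^ l) := by
        have hy' : IsUnit y := (isUnit_pow_iff hm0).1 (hyc ▸ (isUnit_iff_ne_zero.2 hc).map (algebraMap k R))
        refine IsUnit.mul ?_ (hy'.pow l)
        simpa using (isUnit_iff_ne_zero.2 hm).map (algebraMap k R)
      exact hu.smul_eq_zero.1 h1
  refine subsingleton_of_forall_eq 0 fun ω => ?_
  have hω : ω ∈ Submodule.span R (Set.range (KaehlerDifferential.D k R)) := by
    rw [KaehlerDifferential.span_range_derivation]; trivial
  rw [Submodule.span_eq_bot.2 (by rintro _ ⟨x, rfl⟩; exact h0 x)] at hω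
  simpa using hω

open scoped Classical in
/-- A field generated over a discretely valued ring by roots `t_j` of `a_j`, of orders prime to the
residue characteristic, where one `a_i` generates the maximal ideal and the others are units, is
tamely ramified. -/
theorem isTamelyRamified_of_kummer {A : Type u} [CommRing A] [IsDomain A] [IsDiscreteValuationRing A] {L : Type u}
    [Field L] (g : A →+* L) (hg : Function.Injective g) {ι : Type} [Finite ι] (t : ι → L) (a : ι → A)
    (n : ι → ℕ) (ht : ∀ j, t j ^ n j = g (a j)) (hn : ∀ j, IsUnit (n j : A)) (i : ι)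
    (hi : maximalIdeal A = Ideal.span {a i}) (hu : ∀ j, j ≠ i → IsUnit (a j))
    (hgen : ∀ x : L, ∃ p q : MvPolynomial ι A,
      MvPolynomial.eval₂Hom g t q ≠ 0 ∧ x * MvPolynomial.eval₂Hom g t q = MvPolynomial.eval₂Hom g t p) :
    EtRam.IsTamelyRamified A g := by
  intro V hV
  letI : Algebra A V := (RingHom.codRestrict g V hV.1).toAlgebra
  intro hloc
  have hn0 : ∀ j, n j ≠ 0 := fun j h => by simpa [h] using hn j
  have hmem : ∀ j, t j ∈ V := fun j => by
    rw [← ValuationSubring.valuation_le_one_iff, ← pow_le_one_iff (hn0 j), ← map_pow, ht]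
    exact (ValuationSubring.valuation_le_one_iff _ _).2 (hV.1 _)
  let τ : ι → V := fun j => ⟨t j, hmem j⟩
  have hτ : ∀ j, τ j ^ n j = algebraMap A V (a j) := fun j => Subtype.ext (ht j)
  let m := maximalIdeal V
  have hτi : τ i ∈ m := by
    refine (maximalIdeal.isMaximal V).isPrime.mem_of_pow_mem (n i) ?_
    rw [hτ]
    exact fun h => (hi ▸ Ideal.mem_span_singleton_self (a i) : a i ∈ maximalIdeal A)
      (IsLocalHom.map_nonunit _ h)
  have hτu : ∀ j, j ≠ i → IsUnit (τ j) := fun j hj =>
    (isUnit_pow_iff (hn0 j)).1 (hτ j ▸ (hu j hj).map (algebraMap A V))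
  let C := Algebra.adjoin A (Set.range τ)
  let σ : ι → C := fun j => ⟨τ j, Algebra.subset_adjoin ⟨j, rfl⟩⟩
  have hσ : ∀ j, σ j ^ n j = algebraMap A C (a j) := fun j => Subtype.ext (hτ j)
  have hint : ∀ j, IsIntegral A (τ j) := fun j => IsIntegral.of_pow (Nat.pos_of_ne_zero (hn0 j))
    (by rw [hτ]; exact isIntegral_algebraMap)
  haveI : Module.Finite A C := Algebra.finite_adjoin_of_finite_of_isIntegral (Set.finite_range τ)
    (by rintro _ ⟨j, rfl⟩; exact hint j)
  let M : Ideal C := m.comap C.val.toRingHom
  have hσi : σ i ∈ M := hτi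
  let R0 := C ⧸ Ideal.span {σ i}
  let k := ResidueField A
  have hk : ∀ x ∈ maximalIdeal A, algebraMap A R0 x = 0 := by
    intro x hx
    rw [hi, Ideal.mem_span_singleton'] at hx
    obtain ⟨c, rfl⟩ := hx
    rw [IsScalarTower.algebraMap_apply A C R0, map_mul, ← hσ i, Ideal.Quotient.algebraMap_eq,
      map_mul, map_pow, Ideal.Quotient.eq_zero_iff_mem.2 (Ideal.mem_span_singleton_self _),
      zero_pow (hn0 i), mul_zero]
  let ρ : k →+* R0 := Ideal.Quotient.lift (maximalIdeal A) (algebraMap A R0) hk
  letI : Algebra k R0 := RingHom.toAlgebra (R := k) (S := R0) ρ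
  haveI : IsScalarTower A k R0 := IsScalarTower.of_algebraMap_eq fun x => rfl
  haveI : Module.Finite k R0 := by
    haveI : Module.Finite A R0 :=
      Module.Finite.of_surjective (Ideal.Quotient.mkₐ A _).toLinearMap Ideal.Quotient.mk_surjective
    exact Module.Finite.of_restrictScalars_finite A k R0
  haveI : Algebra.FormallyUnramified k R0 := by
    refine formallyUnramified_of_roots (Set.range fun j => Ideal.Quotient.mk _ (σ j)) ?_ ?_
    · rw [eq_top_iff]
      rintro x -
      obtain ⟨⟨c, hc⟩, rfl⟩ := Ideal.Quotient.mk_surjective x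
      induction hc using Algebra.adjoin_induction with
      | mem y hy => obtain ⟨j, rfl⟩ := hy; exact Algebra.subset_adjoin ⟨j, rfl⟩
      | algebraMap r => exact Subalgebra.algebraMap_mem _ (residue A r)
      | add x y hx hy hx' hy' => exact add_mem hx' hy'
      | mul x y hx hy hx' hy' => exact mul_mem hx' hy'
    · rintro _ ⟨j, rfl⟩
      by_cases hj : j = i
      · subst hj
        exact .inl (Ideal.Quotient.eq_zero_iff_mem.2 (Ideal.mem_span_singleton_self _))
      · refine .inr ⟨n j, residue A (a j), ?_, ((hu j hj).map (residue A)).ne_zero, ?_⟩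
        · rw [← map_natCast (residue A)]; exact ((hn j).map (residue A)).ne_zero
        · change Ideal.Quotient.mk _ (σ j) ^ n j = _
          rw [← map_pow, hσ]; rfl
  haveI : IsArtinianRing R0 := IsArtinianRing.of_finite k R0
  haveI : IsReduced R0 := Algebra.FormallyUnramified.isReduced_of_field k R0
  have hstep : ∀ y ∈ M, ∃ s c : C, s ∉ M ∧ y * s = σ i * c := by
    intro y hy
    obtain ⟨z, hz⟩ := exists_mul_one_sub_eq_zero (Ideal.Quotient.mk (Ideal.span {σ i}) y)
    obtain ⟨z, rfl⟩ := Ideal.Quotient.mk_surjective z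
    rw [← map_one (Ideal.Quotient.mk _), ← map_mul, ← map_sub, ← map_mul,
      Ideal.Quotient.eq_zero_iff_mem, Ideal.mem_span_singleton'] at hz
    obtain ⟨c, hc⟩ := hz
    refine ⟨1 - y * z, c, fun h => ?_, by rw [← hc, mul_comm]⟩
    have h1 : (1 : C) ∈ M := by simpa using M.add_mem h (M.mul_mem_right z hy)
    exact (maximalIdeal.isMaximal V).ne_top ((Ideal.eq_top_iff_one _).2 h1)
  have hunit : ∀ y : C, y ∉ M → IsUnit (y : V) := fun y hy => by simpa [M, m] using hy
  -- writing elements of `C` as a power of `τ i` times a unit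
  have hdvd : ∀ y : C, y ≠ 0 → ∃ N, (y : V) ∣ τ i ^ N := by
    intro y hy
    haveI : FaithfulSMul A V := (faithfulSMul_iff_algebraMap_injective A V).2 fun x y h =>
      hg (congrArg Subtype.val h)
    haveI : Algebra.IsIntegral A C := Algebra.IsIntegral.of_finite A C
    obtain ⟨r, hr, hdr⟩ := ((Algebra.IsIntegral.isIntegral (R := A) y).isAlgebraic).exists_nonzero_dvd
      (mem_nonZeroDivisors_of_ne_zero hy)
    obtain ⟨c, hc⟩ := hdr
    obtain ⟨l, w, rfl⟩ := IsDiscreteValuationRing.eq_unit_mul_pow_irreducible hr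
      ((IsDiscreteValuationRing.irreducible_iff_uniformizer _).2 hi)
    refine ⟨n i * l, ?_⟩
    rw [pow_mul, hτ, ← map_pow, ← ((w.isUnit.map (algebraMap A V))).dvd_mul_left, ← map_mul]
    exact ⟨c, congrArg Subtype.val hc⟩
  have hτi0 : τ i ≠ 0 := fun h => by
    have h1 := hτ i
    rw [h, zero_pow (hn0 i)] at h1
    have h2 : g (a i) = 0 := (congrArg Subtype.val h1).symm
    exact ((IsDiscreteValuationRing.irreducible_iff_uniformizer _).2 hi).ne_zero
      ((injective_iff_map_eq_zero g).1 hg _ h2)
  have hτnu : ¬ IsUnit (τ i) := hτi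
  have hfac : ∀ (N : ℕ) (y : C), (y : V) ∣ τ i ^ N → ∃ (l : ℕ) (s c : C),
      s ∉ M ∧ c ∉ M ∧ y * s = σ i ^ l * c := by
    intro N
    induction N with
    | zero =>
      intro y hy
      rw [pow_zero] at hy
      refine ⟨0, 1, y, fun h => (maximalIdeal.isMaximal V).ne_top ((Ideal.eq_top_iff_one _).2 h),
        fun h => h (isUnit_of_dvd_one hy), by simp⟩
    | succ N ih =>
      intro y hy
      by_cases hyM : y ∈ M
      · obtain ⟨s, c, hs, hsc⟩ := hstep y hyM
        have hsc' : (y : V) * (s : V) = τ i * (c : V) := congrArg Subtype.val hsc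
        have h1 : τ i * (c : V) ∣ τ i * τ i ^ N := by
          rw [← hsc', ← pow_succ']
          exact ((hunit s hs).mul_right_dvd).2 hy
        obtain ⟨l, s', c', hs', hc', he⟩ := ih c ((mul_dvd_mul_iff_left hτi0).1 h1)
        refine ⟨l + 1, s * s', c', fun h => ((hunit s hs).mul (hunit s' hs') |> fun hu => h hu), hc', ?_⟩
        rw [← mul_assoc, hsc, mul_assoc, he, pow_succ', mul_assoc]
      · exact ⟨0, 1, y, fun h => (maximalIdeal.isMaximal V).ne_top ((Ideal.eq_top_iff_one _).2 h),
          hyM, by simp⟩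
  have hall : ∀ x : V, x ≠ 0 → ∃ (l : ℕ) (c d : C),
      c ∉ M ∧ d ∉ M ∧ x * (d : V) = τ i ^ l * (c : V) := by
    intro x hx
    obtain ⟨p, q, hq, hpq⟩ := hgen x
    have hev : ∀ P : MvPolynomial ι A,
        MvPolynomial.eval₂Hom g t P = (((MvPolynomial.aeval σ P : C) : V) : L) := by
      intro P
      induction P using MvPolynomial.induction_on with
      | C r => rw [MvPolynomial.eval₂Hom_C, MvPolynomial.aeval_C]; rfl
      | add x y hx hy => rw [map_add, map_add, hx, hy]; rfl
      | mul_X x j hx => rw [map_mul, map_mul, hx, MvPolynomial.eval₂Hom_X', MvPolynomial.aeval_X]; rfl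
    rw [hev] at hq
    rw [hev, hev] at hpq
    set P := (MvPolynomial.aeval σ p : C)
    set Q := (MvPolynomial.aeval σ q : C)
    have hpq' : x * (Q : V) = (P : V) := Subtype.ext hpq
    have hQ : Q ≠ 0 := fun h => hq (by rw [h]; rfl)
    have hP : P ≠ 0 := fun h => by
      rw [h, ZeroMemClass.coe_zero] at hpq'
      exact (mul_ne_zero hx fun h' => hQ (Subtype.ext h')) hpq'
    obtain ⟨N, hN⟩ := hdvd P hP
    obtain ⟨N', hN'⟩ := hdvd Q hQ
    obtain ⟨l, s, c, hs, hc, he⟩ := hfac N P hN
    obtain ⟨l', s', c', hs', hc', he'⟩ := hfac N' Q hN'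
    have he1 : (P : V) * s = τ i ^ l * c := congrArg Subtype.val he
    have he2 : (Q : V) * s' = τ i ^ l' * c' := congrArg Subtype.val he'
    have key : x * τ i ^ l' * ((c' * s : C) : V) = τ i ^ l * ((c * s' : C) : V) := by
      rw [Subalgebra.coe_mul, Subalgebra.coe_mul]
      linear_combination (-(x * (s : V))) * he2 + ((s : V) * (s' : V)) * hpq' + (s' : V) * he1
    have hcs : c' * s ∉ M := fun h => h ((hunit c' hc').mul (hunit s hs))
    have hcs' : c * s' ∉ M := fun h => h ((hunit c hc).mul (hunit s' hs'))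
    have hle : l' ≤ l := by
      by_contra hlt
      obtain ⟨e, rfl⟩ : ∃ e, l' = l + (e + 1) := ⟨l' - l - 1, by omega⟩
      rw [pow_add, pow_succ'] at key
      have h1 : τ i * (τ i ^ e * x * ((c' * s : C) : V)) = ((c * s' : C) : V) :=
        mul_left_cancel₀ (pow_ne_zero l hτi0) (by linear_combination key)
      exact hτnu (isUnit_of_mul_isUnit_left (h1 ▸ hunit _ hcs'))
    obtain ⟨e, rfl⟩ := Nat.exists_eq_add_of_le hle
    refine ⟨e, c * s', c' * s, hcs', hcs, mul_left_cancel₀ (pow_ne_zero l' hτi0) ?_⟩
    rw [pow_add] at key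
    linear_combination key
  have hm : m = Ideal.span {τ i} := by
    refine le_antisymm (fun x hx => ?_) ((Ideal.span_singleton_le_iff_mem _).2 hτi)
    by_cases hx0 : x = 0
    · rw [hx0]; exact Ideal.zero_mem _
    obtain ⟨l, c, d, hc, hd, he⟩ := hall x hx0
    rcases Nat.eq_zero_or_pos l with rfl | hl
    · exfalso
      rw [pow_zero, one_mul] at he
      exact hx (isUnit_of_mul_isUnit_left (he ▸ hunit c hc))
    · rw [Ideal.mem_span_singleton, ← (hunit d hd).dvd_mul_right, he]
      exact dvd_mul_of_dvd_left (dvd_pow_self _ (by omega)) _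
  refine ⟨?_, fun p hp hchar => ?_⟩
  · let K := ResidueField V
    let E := separableClosure k K
    suffices hE : ∀ x : K, x ∈ E by
      exact ⟨fun x => mem_separableClosure_iff.1 (hE x)⟩
    have hsep : ∀ j, residue V (τ j) ∈ E := by
      intro j
      by_cases hj : j = i
      · subst hj
        rw [show residue V (τ j) = 0 from (residue_eq_zero_iff _).2 hτi]
        exact zero_mem _
      · refine mem_separableClosure_iff.2 ?_
        have hnk : (n j : k) ≠ 0 := by
          rw [← map_natCast (residue A)]; exact ((hn j).map (residue A)).ne_zero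
        have hak : residue A (a j) ≠ 0 := ((hu j hj).map (residue A)).ne_zero
        have hroot : Polynomial.aeval (residue V (τ j))
            (Polynomial.X ^ n j - Polynomial.C (residue A (a j))) = 0 := by
          rw [map_sub, map_pow, Polynomial.aeval_X, Polynomial.aeval_C, ← map_pow, hτ, sub_eq_zero]
          rfl
        exact (Polynomial.separable_X_pow_sub_C _ hnk hak).of_dvd (minpoly.dvd k _ hroot)
    have hC : ∀ c : C, residue V (c : V) ∈ E := by
      rintro ⟨c, hc⟩
      induction hc using Algebra.adjoin_induction with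
      | mem y hy => obtain ⟨j, rfl⟩ := hy; exact hsep j
      | algebraMap r => exact E.algebraMap_mem (residue A r)
      | add x y hx hy hx' hy' => rw [map_add]; exact add_mem hx' hy'
      | mul x y hx hy hx' hy' => rw [map_mul]; exact mul_mem hx' hy'
    intro x
    obtain ⟨x, rfl⟩ := residue_surjective x
    by_cases hx0 : x = 0
    · rw [hx0, map_zero]; exact zero_mem _
    obtain ⟨l, c, d, hc, hd, he⟩ := hall x hx0
    have h1 := congrArg (residue V) he
    rw [map_mul, map_mul, map_pow] at h1
    rw [eq_div_of_mul_eq ((hunit d hd).map (residue V)).ne_zero h1]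
    exact div_mem (mul_mem (pow_mem (hsep i) l) (hC c)) (hC d)
  · have he : Ideal.map (algebraMap A V) (maximalIdeal A) = m ^ n i := by
      rw [hi, Ideal.map_span, Set.image_singleton, hm, Ideal.span_singleton_pow, hτ]
    rw [Ideal.ramificationIdx'_spec (n := n i) he.le (fun h => ?_)]
    · intro hdvd'
      have h0 : ((n i : ℕ) : k) = 0 := (CharP.cast_eq_zero_iff k p _).2 hdvd'
      rw [← map_natCast (residue A)] at h0
      exact ((hn i).map (residue A)).ne_zero h0
    · rw [he, hm, Ideal.span_singleton_pow, Ideal.span_singleton_pow,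
        Ideal.span_singleton_le_span_singleton] at h
      obtain ⟨z, hz⟩ := h
      rw [pow_succ, mul_assoc] at hz
      exact hτnu (IsUnit.of_mul_eq_one _ (mul_left_cancel₀ (pow_ne_zero (n i) hτi0)
        ((mul_one _).trans hz)).symm)

end Groth.L27.KummerSNC
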