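import Groth.Prelude.Def_SGA1t
import Groth.Agent.L27.KummerSNC.Cover
import Groth.Agent.L27.KummerSNC.Etale
import Groth.Agent.L27.KummerSNC.Fibre
import Groth.Agent.L27.KummerSNC.Tame
import Mathlib.AlgebraicGeometry.ResidueField
import Mathlib.AlgebraicGeometry.Morphisms.Finite

/-!
# The Kummer cover is finite etale, connected, and relatively tame
-/

set_option autoImplicit false
set_option linter.style.haveILetI false
set_option backward.isDefEq.respectTransparency.types false

universe u

open CategoryTheory Limits AlgebraicGeometry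
open scoped TensorProduct

namespace Groth.L27.KummerSNC

/-- Finite etale and connected. -/
theorem finite_etale_connected {R : Type u} [CommRing R] [IsLocalRing R] {O σ : Type u} [CommRing O]
    [Algebra (MvPolynomial σ O) R] [Algebra.WeaklyEtale (MvPolynomial σ O) R] {ι : Type} [Fintype ι]
    (a : ι → R) (n : ι → ℕ) (e : ι → σ) (he : Function.Injective e)
    (ha : ∀ i, algebraMap (MvPolynomial σ O) R (MvPolynomial.X (e i)) = a i)
    (ham : ∀ i, a i ∈ IsLocalRing.maximalIdeal R) (hn1 : ∀ i, 1 ≤ n i)
    (hnu : ∀ i, IsUnit ((n i : ℕ) : R)) (U₁ : (Spec (CommRingCat.of R)).Opens) (G : R)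
    (hU : (U₁ : Set (Spec (CommRingCat.of R))) = ((PrimeSpectrum.basicOpen G : TopologicalSpace.Opens (PrimeSpectrum R)) : Set (PrimeSpectrum R)))
    (L : List ι) (hL : ∀ i, i ∈ L) (v : Rˣ) (hG : G = ↑v * (L.map a).prod) :
    letI π : Spec (CommRingCat.of (SGA1t.kummer R a n)) ⟶ Spec (CommRingCat.of R) :=
      Spec.map (CommRingCat.ofHom (algebraMap R (SGA1t.kummer R a n)))
    IsFinite (π ∣_ U₁) ∧ Etale (π ∣_ U₁) ∧ ConnectedSpace ↥(π ⁻¹ᵁ U₁) := by
  classical
  let K := SGA1t.kummer R a n
  let π : Spec (CommRingCat.of K) ⟶ Spec (CommRingCat.of R) :=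
    Spec.map (CommRingCat.ofHom (algebraMap R K))
  haveI : Module.Finite R K := finite_kummer a n hn1
  haveI : IsFinite π := (IsFinite.SpecMap_iff _).2 (RingHom.finite_algebraMap.2 inferInstance)
  let V : (Spec (CommRingCat.of K)).Opens := π ⁻¹ᵁ U₁
  let g : K := algebraMap R K G
  have hVset : (V : Set (Spec (CommRingCat.of K))) = ((PrimeSpectrum.basicOpen g : TopologicalSpace.Opens (PrimeSpectrum K)) : Set (PrimeSpectrum K)) := by
    change π ⁻¹' (U₁ : Set (Spec (CommRingCat.of R))) = _
    rw [hU]
    rfl
  refine ⟨inferInstance, ?_, ?_⟩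
  · let Kg := Localization.Away g
    haveI : Algebra.Etale R Kg :=
      etale_kummer a n hnu hn1 G fun i => by
        rw [hG]; exact dvd_mul_of_dvd_right (List.dvd_prod (List.mem_map.2 ⟨i, hL i, rfl⟩)) _
    let j : Spec (CommRingCat.of Kg) ⟶ Spec (CommRingCat.of K) :=
      Spec.map (CommRingCat.ofHom (algebraMap K Kg))
    haveI : IsOpenImmersion j := IsOpenImmersion.of_isLocalization g
    have hr : Set.range j = Set.range V.ι := by
      rw [Scheme.Opens.range_ι, hVset]
      exact PrimeSpectrum.localization_away_comap_range Kg g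
    let E := IsOpenImmersion.isoOfRangeEq j V.ι hr
    haveI : Etale (j ≫ π) := by
      rw [show j ≫ π = Spec.map (CommRingCat.ofHom (algebraMap R Kg)) by
        rw [← Spec.map_comp, ← CommRingCat.ofHom_comp, ← IsScalarTower.algebraMap_eq]]
      exact (HasRingHomProperty.Spec_iff (P := @Etale)).2 (RingHom.etale_algebraMap.2 inferInstance)
    haveI : Etale ((π ∣_ U₁) ≫ U₁.ι) := by
      rw [morphismRestrict_ι, ← MorphismProperty.cancel_left_of_respectsIso (P := @Etale) E.hom,
        ← Category.assoc, IsOpenImmersion.isoOfRangeEq_hom_fac]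
      infer_instance
    exact Etale.of_comp (π ∣_ U₁) U₁.ι
  · obtain ⟨hnt, hidem⟩ := idempotent_kummer (O := O) a n e he hn1 ha ham g
      (L.flatMap fun i => List.replicate (n i) i) (Units.map (algebraMap R K).toMonoidHom v) (by
        change algebraMap R K G = _
        rw [hG, map_mul, map_list_prod, List.map_map]
        congr 1
        clear hL hG
        induction L with
        | nil => simp
        | cons i L ih =>
          rw [List.flatMap_cons, List.map_append, List.prod_append, List.map_cons, List.prod_cons, ih,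
            List.map_replicate, List.prod_replicate]
          rw [show Ideal.Quotient.mk _ (MvPolynomial.X i) ^ n i = algebraMap R K (a i) from root_pow a n i]
          rfl)
    haveI := hnt
    haveI : ConnectedSpace (PrimeSpectrum (Localization.Away g)) := by
      rw [connectedSpace_iff_clopen]
      refine ⟨inferInstance, fun s hs => ?_⟩
      obtain ⟨x, hx, rfl⟩ := PrimeSpectrum.isClopen_iff.1 hs
      rcases hidem x hx with rfl | rfl
      · exact .inl (by rw [PrimeSpectrum.basicOpen_zero]; rfl)
      · exact .inr (by rw [PrimeSpectrum.basicOpen_one]; rfl)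
    refine (isConnected_iff_connectedSpace (s := (V : Set (Spec (CommRingCat.of K))))).1 ?_
    rw [hVset, ← PrimeSpectrum.localization_away_comap_range (Localization.Away g) g]
    exact isConnected_range (PrimeSpectrum.continuous_comap _)

/-- The residue field at a point of a pullback is generated by the images of the two factors. -/
theorem residueField_generated {A K : Type u} [CommRing A] [CommRing K] {Y W : Scheme.{u}}
    (π₀ : A →+* K) (V : (Spec (CommRingCat.of K)).Opens) {y : Y}
    (q : Y ⟶ Spec (CommRingCat.of A)) (r : W ⟶ (V : Scheme.{u})) (r' : W ⟶ Y)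
    (hW : IsPullback r r' (V.ι ≫ Spec.map (CommRingCat.ofHom π₀)) q)
    {R : Type u} [CommRing R] (c : Spec (CommRingCat.of R) ⟶ Y) (w : W)
    (g : R →+* W.residueField w)
    (hg : Spec.map (CommRingCat.ofHom g) ≫ c = W.fromSpecResidueField w ≫ r')
    (χ : K →+* W.residueField w)
    (hχ : Spec.map (CommRingCat.ofHom χ) = W.fromSpecResidueField w ≫ r ≫ V.ι)
    (α : A →+* R) (hα : Spec.map (CommRingCat.ofHom α) = c ≫ q) :
    ∀ z : W.residueField w, z ∈ Subfield.closure (Set.range g ∪ Set.range χ) := by
  let L' := Subfield.closure (Set.range g ∪ Set.range χ)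
  let incl : L' →+* W.residueField w := L'.subtype
  let g' : R →+* L' := g.codRestrict L' fun z => Subfield.subset_closure (.inl ⟨z, rfl⟩)
  let χ' : K →+* L' := χ.codRestrict L' fun z => Subfield.subset_closure (.inr ⟨z, rfl⟩)
  let i₀ : Spec (W.residueField w) ⟶ Spec (CommRingCat.of L') := Spec.map (CommRingCat.ofHom incl)
  have hχ' : i₀ ≫ Spec.map (CommRingCat.ofHom χ') = W.fromSpecResidueField w ≫ r ≫ V.ι := by
    rw [← hχ, ← Spec.map_comp]; rfl
  have hr : Set.range (Spec.map (CommRingCat.ofHom χ')) ⊆ Set.range V.ι := by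
    rintro _ ⟨z, rfl⟩
    obtain rfl : z = i₀ (default : PrimeSpectrum (W.residueField w)) :=
      Subsingleton.elim (α := PrimeSpectrum L') _ _
    rw [← Scheme.Hom.comp_apply, hχ', ← Category.assoc, Scheme.Hom.comp_apply]
    exact ⟨_, rfl⟩
  let lV := IsOpenImmersion.lift V.ι (Spec.map (CommRingCat.ofHom χ')) hr
  let lY : Spec (CommRingCat.of L') ⟶ Y := Spec.map (CommRingCat.ofHom g') ≫ c
  have hcomm : lV ≫ V.ι ≫ Spec.map (CommRingCat.ofHom π₀) = lY ≫ q := by
    rw [IsOpenImmersion.lift_fac_assoc, Category.assoc, ← hα, ← Spec.map_comp, ← Spec.map_comp]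
    congr 1
    rw [← CommRingCat.ofHom_comp, ← CommRingCat.ofHom_comp]
    congr 1
    refine RingHom.ext fun z => Subtype.ext ?_
    have h1 := congrArg (W.fromSpecResidueField w ≫ ·) hW.w
    simp only [← Category.assoc] at h1
    rw [← hg] at h1
    simp only [Category.assoc] at h1
    rw [← hα] at h1
    simp only [← Category.assoc] at h1
    rw [show (W.fromSpecResidueField w ≫ r) ≫ V.ι = Spec.map (CommRingCat.ofHom χ) by
      rw [Category.assoc, hχ], ← Spec.map_comp, ← Spec.map_comp] at h1
    exact congrArg (fun t : CommRingCat.of A ⟶ W.residueField w => t z) (Spec.map_injective h1)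
  let l := hW.lift lV lY hcomm
  have hl : i₀ ≫ l = W.fromSpecResidueField w := by
    refine hW.hom_ext ?_ ?_
    · rw [Category.assoc, hW.lift_fst, ← cancel_mono V.ι, Category.assoc, IsOpenImmersion.lift_fac, hχ',
        Category.assoc]
    · rw [Category.assoc, hW.lift_snd, ← hg]
      change i₀ ≫ Spec.map _ ≫ c = _
      rw [← Category.assoc, ← Spec.map_comp]
      rfl
  obtain ⟨⟨w', m⟩, hm⟩ := (Scheme.SpecToEquivOfField L' W).symm.surjective l
  change Spec.map m ≫ W.fromSpecResidueField w' = l at hm
  have hw : w' = w := by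
    have h1 : (i₀ ≫ l) (default : PrimeSpectrum (W.residueField w)) ∈ ({w} : Set W) := by
      rw [hl, ← W.range_fromSpecResidueField w]; exact ⟨_, rfl⟩
    rw [← hm, Scheme.Hom.comp_apply, Scheme.Hom.comp_apply] at h1
    have h2 : (W.fromSpecResidueField w') (Spec.map m (i₀ (default : PrimeSpectrum (W.residueField w)))) ∈
        ({w'} : Set W) := by
      rw [← W.range_fromSpecResidueField w']; exact ⟨_, rfl⟩
    exact h2.symm.trans h1
  subst hw
  have h3 : Spec.map (m ≫ CommRingCat.ofHom incl) = 𝟙 _ := by
    rw [← cancel_mono (W.fromSpecResidueField w'), Spec.map_comp, Category.assoc, hm, Category.id_comp]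
    exact hl
  rw [← Spec.map_id] at h3
  intro z
  have h4 := congrArg (fun t : W.residueField w' ⟶ W.residueField w' => t z) (Spec.map_injective h3)
  have h5 : incl (m z) = z := h4
  rw [← h5]
  exact (m z).2

end Groth.L27.KummerSNC
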