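import Groth.Agent.L27.KummerSNC.RelTame
import Mathlib.AlgebraicGeometry.Stalk

/-!
# Relative tameness of the Kummer cover
-/

set_option autoImplicit false
set_option linter.style.haveILetI false
set_option backward.isDefEq.respectTransparency.types false

universe u

open CategoryTheory Limits AlgebraicGeometry
open scoped TensorProduct

namespace Groth.L27.KummerSNC

theorem isWE_fromSpecStalk {B : CommRingCat.{u}} (p : Spec B) :
    ∃ t : B →+* (Spec B).presheaf.stalk p, IsWE t ∧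
      Spec.map (CommRingCat.ofHom t) = (Spec B).fromSpecStalk p := by
  refine ⟨(StructureSheaf.toStalk B p).hom, ?_, by
    rw [Spec.fromSpecStalk_eq', CommRingCat.ofHom_hom]; rfl⟩
  letI : Algebra B ((Spec B).presheaf.stalk p) := RingHom.toAlgebra (StructureSheaf.toStalk B p).hom
  haveI : IsLocalization.AtPrime ((Spec B).presheaf.stalk p) p.asIdeal :=
    StructureSheaf.IsLocalization.to_stalk (R := B) p
  exact Groth.L20.weaklyEtale_isLocalization p.asIdeal.primeCompl _

theorem isRelTame_kummer {X S : Scheme.{u}} (f : X ⟶ S) {r : ℕ} (φ : Fin r → Γ(X, ⊤))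
    (hD : SGA1t.IsRelSNC f φ) (x : X) (hx : Nonempty (SGA1t.vanishingAt φ x))
    (n : SGA1t.vanishingAt φ x → ℕ) (hn1 : ∀ i, 1 ≤ n i)
    (hnu : ∀ i, IsUnit ((n i : ℕ) : X.residueField x)) :
    letI A := X.presheaf.stalk x
    letI a : SGA1t.vanishingAt φ x → A := fun i => (X.presheaf.germ ⊤ x trivial).hom (φ i.1)
    letI π : Spec (CommRingCat.of (SGA1t.kummer A a n)) ⟶ Spec (CommRingCat.of A) :=
      Spec.map (CommRingCat.ofHom (algebraMap A (SGA1t.kummer A a n)))
    letI φ₁ : Fin r → Γ(Spec (CommRingCat.of A), ⊤) := fun i => (X.fromSpecStalk x).appTop (φ i)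
    ∀ [hF : IsFinite (π ∣_ SGA1t.compl φ₁)] [hE : Etale (π ∣_ SGA1t.compl φ₁)],
      SGA1t.IsRelTame (X.fromSpecStalk x ≫ f) φ₁ (MorphismProperty.Over.mk ⊤ (π ∣_ SGA1t.compl φ₁) ⟨hF, hE⟩) := by
  intro hF hE Ω _ _ σ₀ _ y _ hy w h hne
  classical
  let A := X.presheaf.stalk x
  let a : SGA1t.vanishingAt φ x → A := fun i => (X.presheaf.germ ⊤ x trivial).hom (φ i.1)
  let K := SGA1t.kummer A a n
  let π : Spec (CommRingCat.of K) ⟶ Spec (CommRingCat.of A) :=
    Spec.map (CommRingCat.ofHom (algebraMap A K))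
  let φ₁ : Fin r → Γ(Spec (CommRingCat.of A), ⊤) := fun i => (X.fromSpecStalk x).appTop (φ i)
  let U₁ := SGA1t.compl φ₁
  let Y := pullback (X.fromSpecStalk x ≫ f) σ₀
  let q : Y ⟶ Spec (CommRingCat.of A) := pullback.fst (X.fromSpecStalk x ≫ f) σ₀
  let W := pullback ((π ∣_ U₁) ≫ U₁.ι) q
  let r₁ : W ⟶ ((π ⁻¹ᵁ U₁ : (Spec (CommRingCat.of K)).Opens) : Scheme.{u}) :=
    pullback.fst ((π ∣_ U₁) ≫ U₁.ι) q
  let r₂ : W ⟶ Y := pullback.snd ((π ∣_ U₁) ≫ U₁.ι) q
  change ↥W at w
  change r₂ w ⤳ y at h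
  change r₂ w ≠ y at hne
  haveI : IsDiscreteValuationRing (Y.presheaf.stalk y) := hy
  let g : Y.presheaf.stalk y →+* W.residueField w :=
    (r₂.residueFieldMap w).hom.comp ((Y.residue _).hom.comp (Y.presheaf.stalkSpecializes h).hom)
  change EtRam.IsTamelyRamified (Y.presheaf.stalk y) g
  obtain ⟨U, hU, θ, d, ψ, e, hfac, hC, -, hψ, he, hφ⟩ := exists_coords f φ hD x hx
  -- the geometric point factors through `U`
  have hσU : Set.range σ₀ ⊆ Set.range hU.fromSpec := by
    rintro _ ⟨z, rfl⟩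
    obtain rfl : z = pullback.snd (X.fromSpecStalk x ≫ f) σ₀ y :=
      Subsingleton.elim (α := PrimeSpectrum Ω) _ _
    have hc : q ≫ Spec.map (CommRingCat.ofHom θ) ≫ hU.fromSpec =
        pullback.snd (X.fromSpecStalk x ≫ f) σ₀ ≫ σ₀ :=
      (congrArg (q ≫ ·) hfac).trans pullback.condition
    rw [← Scheme.Hom.comp_apply, ← hc, ← Category.assoc, Scheme.Hom.comp_apply]
    exact ⟨_, rfl⟩
  let s := IsOpenImmersion.lift hU.fromSpec σ₀ hσU
  letI : Algebra Γ(S, U) A := θ.toAlgebra
  letI : Algebra Γ(S, U) Ω := (Spec.preimage s).hom.toAlgebra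
  let p₁ : Y ⟶ Spec (CommRingCat.of A) := q
  have hs : Spec.map (CommRingCat.ofHom (algebraMap Γ(S, U) Ω)) = s := by
    change Spec.map (CommRingCat.ofHom (Spec.preimage s).hom) = s
    rw [CommRingCat.ofHom_hom, Spec.map_preimage]
  have hcond : q ≫ Spec.map (CommRingCat.ofHom (algebraMap Γ(S, U) A)) =
      pullback.snd (X.fromSpecStalk x ≫ f) σ₀ ≫ Spec.map (CommRingCat.ofHom (algebraMap Γ(S, U) Ω)) := by
    rw [hs, ← cancel_mono hU.fromSpec, Category.assoc, Category.assoc, IsOpenImmersion.lift_fac]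
    change q ≫ Spec.map (CommRingCat.ofHom θ) ≫ hU.fromSpec = _
    rw [hfac]
    exact pullback.condition
  let Z := pullback (Spec.map (CommRingCat.ofHom (algebraMap Γ(S, U) A)))
    (Spec.map (CommRingCat.ofHom (algebraMap Γ(S, U) Ω)))
  let toZ : Y ⟶ Z := pullback.lift q (pullback.snd _ _) hcond
  let ofZ : Z ⟶ Y := pullback.lift (pullback.fst _ _) (pullback.snd _ _) (by
    rw [← hfac]
    change pullback.fst _ _ ≫ Spec.map (CommRingCat.ofHom (algebraMap Γ(S, U) A)) ≫ hU.fromSpec = _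
    exact (pullback.condition_assoc _).trans (congrArg (pullback.snd _ _ ≫ ·)
      ((congrArg (· ≫ hU.fromSpec) hs).trans (IsOpenImmersion.lift_fac _ _ _))))
  have h1a : toZ ≫ pullback.fst _ _ = q := pullback.lift_fst _ _ _
  have h1b : toZ ≫ pullback.snd _ _ = pullback.snd (X.fromSpecStalk x ≫ f) σ₀ := pullback.lift_snd _ _ _
  have h2a : ofZ ≫ q = pullback.fst _ _ := pullback.lift_fst _ _ _
  have h2b : ofZ ≫ pullback.snd (X.fromSpecStalk x ≫ f) σ₀ = pullback.snd _ _ := pullback.lift_snd _ _ _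
  haveI : IsIso toZ := ⟨ofZ, pullback.hom_ext
      ((Category.assoc _ _ _).trans ((congrArg (toZ ≫ ·) h2a).trans (h1a.trans (Category.id_comp _).symm)))
      ((Category.assoc _ _ _).trans ((congrArg (toZ ≫ ·) h2b).trans (h1b.trans (Category.id_comp _).symm))),
    pullback.hom_ext
      ((Category.assoc _ _ _).trans ((congrArg (ofZ ≫ ·) h1a).trans (h2a.trans (Category.id_comp _).symm)))
      ((Category.assoc _ _ _).trans ((congrArg (ofZ ≫ ·) h1b).trans (h2b.trans (Category.id_comp _).symm)))⟩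
  let B : CommRingCat.{u} := CommRingCat.of (A ⊗[Γ(S, U)] Ω)
  let j : Y ⟶ Spec B := toZ ≫ (pullbackSpecIso Γ(S, U) A Ω).hom
  obtain ⟨t, ht, htB⟩ := isWE_fromSpecStalk (B := B) (j y)
  let ρ : A ⊗[Γ(S, U)] Ω →+* Y.presheaf.stalk y := (j.stalkMap y).hom.comp t
  have hρ : Spec.map (CommRingCat.ofHom ρ) = Y.fromSpecStalk y ≫ j := by
    rw [← Scheme.SpecMap_stalkMap_fromSpecStalk, ← htB, ← Spec.map_comp]
    rfl
  have hρWE : IsWE ρ := by
    haveI : IsIso j := inferInstance
    exact ht.comp (IsWE.of_bijective (asIso (j.stalkMap y)).commRingCatIsoToRingEquiv.bijective)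
  let α : A →+* Y.presheaf.stalk y := ρ.comp Algebra.TensorProduct.includeLeftRingHom
  have hα : Spec.map (CommRingCat.ofHom α) = Y.fromSpecStalk y ≫ q := by
    rw [show CommRingCat.ofHom α = CommRingCat.ofHom
        (Algebra.TensorProduct.includeLeftRingHom : A →+* A ⊗[Γ(S, U)] Ω) ≫ CommRingCat.ofHom ρ from rfl,
      Spec.map_comp, hρ]
    refine (Category.assoc _ _ _).trans (congrArg (Y.fromSpecStalk y ≫ ·) ?_)
    change (toZ ≫ _) ≫ _ = q
    rw [Category.assoc, pullbackSpecIso_hom_fst]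
    exact h1a
  let eΩ := MvPolynomial.eval₂Hom (Algebra.TensorProduct.includeRight (R := Γ(S, U)) (A := A) (B := Ω)).toRingHom
    fun j => ψ (MvPolynomial.X j) ⊗ₜ[Γ(S, U)] (1 : Ω)
  letI : Algebra (MvPolynomial (ULift.{u} (Fin d)) Ω) (Y.presheaf.stalk y) := (ρ.comp eΩ).toAlgebra
  haveI : Algebra.WeaklyEtale (MvPolynomial (ULift.{u} (Fin d)) Ω) (Y.presheaf.stalk y) :=
    (isWE_baseChange ψ hC hψ).comp hρWE
  have hX : ∀ i, algebraMap (MvPolynomial (ULift.{u} (Fin d)) Ω) (Y.presheaf.stalk y)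
      (MvPolynomial.X (ULift.up (e i))) = α (a i) := fun i => by
    change ρ (eΩ (MvPolynomial.X _)) = ρ (a i ⊗ₜ[Γ(S, U)] (1 : Ω))
    rw [MvPolynomial.eval₂Hom_X', hφ]
  -- the map to the residue field
  have hg : Spec.map (CommRingCat.ofHom g) ≫ Y.fromSpecStalk y = W.fromSpecResidueField w ≫ r₂ := by
    rw [show CommRingCat.ofHom g = Y.presheaf.stalkSpecializes h ≫ Y.residue _ ≫ r₂.residueFieldMap w
      from rfl, Spec.map_comp, Spec.map_comp, Category.assoc, Category.assoc,
      Scheme.SpecMap_stalkSpecializes_fromSpecStalk]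
    exact r₂.SpecMap_residueFieldMap_fromSpecResidueField w
  have hginj : Function.Injective g := by
    rw [RingHom.injective_iff_ker_eq_bot]
    by_contra hne'
    haveI : (RingHom.ker g).IsPrime := RingHom.ker_isPrime g
    have hmax : RingHom.ker g = IsLocalRing.maximalIdeal (Y.presheaf.stalk y) :=
      IsLocalRing.eq_maximalIdeal (Ideal.IsPrime.isMaximal inferInstance hne')
    apply hne
    let z : Spec (W.residueField w) := (default : PrimeSpectrum (W.residueField w))
    have h1 : (Spec.map (CommRingCat.ofHom g) ≫ Y.fromSpecStalk y) z = y := by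
      rw [Scheme.Hom.comp_apply, show Spec.map (CommRingCat.ofHom g) z =
        IsLocalRing.closedPoint (Y.presheaf.stalk y) from ?_, Scheme.fromSpecStalk_closedPoint]
      refine PrimeSpectrum.ext ?_
      change Ideal.comap g z.asIdeal = IsLocalRing.maximalIdeal _
      rw [show z.asIdeal = ⊥ from Ideal.eq_bot_of_prime _, ← hmax, RingHom.ker_eq_comap_bot]
    rw [hg, Scheme.Hom.comp_apply, Scheme.fromSpecResidueField_apply] at h1
    exact h1
  let χ : K →+* W.residueField w :=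
    (Spec.preimage (W.fromSpecResidueField w ≫ r₁ ≫ (π ⁻¹ᵁ U₁).ι)).hom
  have hχ : Spec.map (CommRingCat.ofHom χ) = W.fromSpecResidueField w ≫ r₁ ≫ (π ⁻¹ᵁ U₁).ι := by
    rw [CommRingCat.ofHom_hom, Spec.map_preimage]
  have hW : IsPullback r₁ r₂ ((π ⁻¹ᵁ U₁).ι ≫ Spec.map (CommRingCat.ofHom (algebraMap A K))) q := by
    rw [show (π ⁻¹ᵁ U₁).ι ≫ Spec.map (CommRingCat.ofHom (algebraMap A K)) = (π ∣_ U₁) ≫ U₁.ι from
      (morphismRestrict_ι π U₁).symm]
    exact IsPullback.of_hasPullback _ _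
  have hχA : χ.comp (algebraMap A K) = g.comp α := by
    refine congrArg CommRingCat.Hom.hom (Spec.map_injective (?_ :
      Spec.map (CommRingCat.ofHom (χ.comp (algebraMap A K))) = Spec.map (CommRingCat.ofHom (g.comp α))))
    refine ((Spec.map_comp (CommRingCat.ofHom (algebraMap A K)) (CommRingCat.ofHom χ)).trans
      (congrArg (· ≫ π) hχ)).trans ?_
    refine Eq.trans ?_ ((congrArg (Spec.map (CommRingCat.ofHom g) ≫ ·) hα.symm).trans
      (Spec.map_comp (CommRingCat.ofHom α) (CommRingCat.ofHom g)).symm)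
    change (W.fromSpecResidueField w ≫ r₁ ≫ (π ⁻¹ᵁ U₁).ι) ≫ π = Spec.map (CommRingCat.ofHom g) ≫ Y.fromSpecStalk y ≫ q
    rw [← Category.assoc _ _ q, hg, Category.assoc, Category.assoc, Category.assoc]
    exact congrArg (W.fromSpecResidueField w ≫ ·) hW.w
  let T : SGA1t.vanishingAt φ x → W.residueField w := fun i => χ (root a n i)
  have hT : ∀ i, T i ^ n i = g (α (a i)) := fun i => by
    rw [← map_pow, root_pow]; exact RingHom.congr_fun hχA (a i)
  have hnunit : ∀ i, IsUnit ((n i : ℕ) : Y.presheaf.stalk y) := fun i => by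
    rw [← map_natCast α]
    refine IsUnit.map _ ((isUnit_map_iff (IsLocalRing.residue A) _).1 ?_)
    rw [map_natCast]; exact hnu i
  -- generation
  have hgen₀ : ∀ z, ∃ p q' : MvPolynomial (SGA1t.vanishingAt φ x) (Y.presheaf.stalk y),
      MvPolynomial.eval₂Hom g T q' ≠ 0 ∧
        z * MvPolynomial.eval₂Hom g T q' = MvPolynomial.eval₂Hom g T p := by
    intro z
    have hz := residueField_generated (algebraMap A K) (π ⁻¹ᵁ U₁) (y := y) q r₁ r₂ hW
      (Y.fromSpecStalk y) w g hg χ hχ α hα z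
    let E := MvPolynomial.eval₂Hom g T
    have hle : Subring.closure (Set.range g ∪ Set.range χ) ≤ E.range := by
      rw [Subring.closure_le]
      rintro _ (⟨b, rfl⟩ | ⟨k, rfl⟩)
      · exact ⟨MvPolynomial.C b, MvPolynomial.eval₂Hom_C _ _ b⟩
      · obtain ⟨P, rfl⟩ := Ideal.Quotient.mk_surjective k
        refine ⟨MvPolynomial.map α P, ?_⟩
        induction P using MvPolynomial.induction_on with
        | C c =>
          rw [MvPolynomial.map_C, MvPolynomial.eval₂Hom_C]
          exact (RingHom.congr_fun hχA c).symm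
        | add u v hu hv => rw [map_add, map_add, map_add, map_add, hu, hv]
        | mul_X u i hu =>
          rw [map_mul, map_mul, map_mul, map_mul, hu, MvPolynomial.map_X, MvPolynomial.eval₂Hom_X']
    obtain ⟨b, hb, c, hc, rfl⟩ := Subfield.mem_closure_iff.1 hz
    obtain ⟨p, rfl⟩ := hle hb
    obtain ⟨q', rfl⟩ := hle hc
    by_cases h0 : E q' = 0
    · exact ⟨0, 1, by rw [map_one]; exact one_ne_zero, by rw [h0, div_zero, zero_mul, map_zero]⟩
    · exact ⟨p, q', h0, div_mul_cancel₀ _ h0⟩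
  haveI : Finite (SGA1t.vanishingAt φ x) :=
    inferInstanceAs (Finite {i : Fin r // x ∉ X.basicOpen (φ i)})
  by_cases hnon : ∃ i, ¬ IsUnit (α (a i))
  · obtain ⟨i, hi⟩ := hnon
    refine isTamelyRamified_of_kummer g hginj T (fun i => α (a i)) n hT hnunit i ?_ (fun k hk => ?_) hgen₀
    · rw [← hX]; exact coord_maximalIdeal _ (by rw [hX]; exact hi)
    · rw [← hX]
      exact coord_unique _ _ (by rw [hX]; exact hi) fun h' => hk (he (congrArg ULift.down h'))
  · push Not at hnon
    obtain ⟨ϖ, hϖ⟩ := IsDiscreteValuationRing.exists_irreducible (Y.presheaf.stalk y)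
    refine isTamelyRamified_of_kummer g hginj (ι := Option (SGA1t.vanishingAt φ x))
      (fun o => o.elim (g ϖ) T) (fun o => o.elim ϖ fun i => α (a i)) (fun o => o.elim 1 n) ?_ ?_ none
      hϖ.maximalIdeal_eq ?_ ?_
    · rintro (_ | i)
      · exact pow_one _
      · exact hT i
    · rintro (_ | i)
      · simp
      · exact hnunit i
    · rintro (_ | i) hne'
      · exact absurd rfl hne'
      · exact hnon i
    · intro z
      obtain ⟨p, q', h1, h2⟩ := hgen₀ z
      refine ⟨MvPolynomial.rename some p, MvPolynomial.rename some q', ?_, ?_⟩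
      · rw [MvPolynomial.eval₂Hom_rename]; exact h1
      · rw [MvPolynomial.eval₂Hom_rename, MvPolynomial.eval₂Hom_rename]; exact h2

end Groth.L27.KummerSNC
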