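import Groth.Agent.L27.KummerSNC.Coords
import Mathlib.RingTheory.Smooth.Basic

/-!
# Kummer algebras on coordinates are formally smooth
-/

set_option autoImplicit false
set_option linter.style.haveILetI false
set_option backward.isDefEq.respectTransparency.types false

universe u v

open CategoryTheory Limits AlgebraicGeometry

namespace Groth.L27.KummerSNC

open MvPolynomial in
/-- If `R[X_j] → A` is formally etale, the Kummer algebra on distinct coordinates is formally smooth
over `R`. -/
theorem formallySmooth_kummer {R A : Type u} [CommRing R] [CommRing A] [Algebra R A] {σ : Type u}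
    (ψ : MvPolynomial σ R →ₐ[R] A) (hψ : ψ.toRingHom.FormallyEtale) {ι : Type} (e : ι → σ)
    (he : Function.Injective e) (a : ι → A) (ha : ∀ i, ψ (X (e i)) = a i) (n : ι → ℕ) :
    Algebra.FormallySmooth R (SGA1t.kummer A a n) := by
  classical
  refine Algebra.FormallySmooth.of_comp_surjective fun Q _ _ I hI g => ?_
  let gA : A →ₐ[R] Q ⧸ I := g.comp (IsScalarTower.toAlgHom R A (SGA1t.kummer A a n))
  let mkK : MvPolynomial ι A →ₐ[A] SGA1t.kummer A a n := Ideal.Quotient.mkₐ A _
  choose t ht using fun i => Ideal.Quotient.mk_surjective (g (mkK (X i)))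
  choose b hb using fun j : σ => Ideal.Quotient.mk_surjective (gA (ψ (X j)))
  let w : σ → Q := Function.extend e (fun i => t i ^ n i) b
  have hw : ∀ j, Ideal.Quotient.mk I (w j) = gA (ψ (X j)) := by
    intro j
    by_cases hj : ∃ i, e i = j
    · obtain ⟨i, rfl⟩ := hj
      rw [show w (e i) = t i ^ n i from he.extend_apply _ _ i, map_pow, ht, ← map_pow, ha]
      refine congrArg g ?_
      change Ideal.Quotient.mk _ (X i ^ n i) = Ideal.Quotient.mk _ (C (a i))
      exact Ideal.Quotient.eq.2 (Ideal.subset_span ⟨i, rfl⟩)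
    · rw [show w j = b j from Function.extend_apply' _ _ _ hj, hb]
  let α : MvPolynomial σ R →ₐ[R] Q := aeval w
  letI := ψ.toRingHom.toAlgebra
  letI := α.toRingHom.toAlgebra
  haveI : Algebra.FormallyEtale (MvPolynomial σ R) A := hψ
  have hcomm : gA.comp ψ = (Ideal.Quotient.mkₐ R I).comp α := by
    refine algHom_ext fun j => ?_
    change gA (ψ (X j)) = Ideal.Quotient.mk I (α (X j))
    rw [show α (X j) = w j from aeval_X w j, hw j]
  let gA' : A →ₐ[MvPolynomial σ R] Q ⧸ I :=
    { gA with commutes' := fun p => DFunLike.congr_fun hcomm p }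
  obtain ⟨β, hβ⟩ := Algebra.FormallySmooth.comp_surjective (MvPolynomial σ R) A I hI gA'
  have hβψ : ∀ p, β (ψ p) = α p := fun p => β.commutes p
  let β₀ : A →ₐ[R] Q :=
    { β.toRingHom with
      commutes' := fun r => by
        change β (algebraMap R A r) = algebraMap R Q r
        rw [← ψ.commutes r, hβψ]
        exact α.commutes r }
  letI := β₀.toRingHom.toAlgebra
  haveI : IsScalarTower R A Q := IsScalarTower.of_algebraMap_eq fun r => (β₀.commutes r).symm
  let l : MvPolynomial ι A →ₐ[A] Q := aeval t
  have hle : Ideal.span (Set.range fun i => (X i : MvPolynomial ι A) ^ n i - C (a i)) ≤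
      RingHom.ker l.toRingHom := by
    rw [Ideal.span_le]
    rintro _ ⟨i, rfl⟩
    change l (X i ^ n i - C (a i)) = 0
    rw [map_sub, map_pow, show l (X i) = t i from aeval_X t i, show l (C (a i)) = β (a i) from
      aeval_C t (a i), ← ha i, hβψ, show α (X (e i)) = w (e i) from aeval_X w _,
      show w (e i) = t i ^ n i from he.extend_apply _ _ i, sub_self]
  let G : SGA1t.kummer A a n →ₐ[R] Q :=
    Ideal.Quotient.liftₐ _ (l.restrictScalars R) fun x hx => hle hx
  refine ⟨G, AlgHom.ext fun z => ?_⟩
  obtain ⟨z, rfl⟩ := Ideal.Quotient.mk_surjective z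
  change Ideal.Quotient.mk I (l z) = g (Ideal.Quotient.mk _ z)
  induction z using MvPolynomial.induction_on with
  | C r =>
    rw [show l (C r) = β r from aeval_C t r]
    exact DFunLike.congr_fun hβ r
  | add p q hp hq => rw [map_add, map_add, map_add, map_add, hp, hq]
  | mul_X p i hp =>
    rw [map_mul, map_mul, map_mul, map_mul, hp, show l (X i) = t i from aeval_X t i, ht]
    rfl

/-- The stalk maps of the morphism to an affine open given by a formally smooth ring map. -/
theorem formallySmooth_stalkMap {S : Scheme.{u}} {U : S.Opens} (hU : IsAffineOpen U)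
    {B : CommRingCat.{u}} (θ : Γ(S, U) ⟶ B) (hθ : θ.hom.FormallySmooth) (x : Spec B) :
    ((Spec.map θ ≫ hU.fromSpec).stalkMap x).hom.FormallySmooth := by
  rw [Scheme.Hom.stalkMap_comp]
  refine (RingHom.FormallySmooth.respectsIso.cancel_left_isIso
    (hU.fromSpec.stalkMap (Spec.map θ x)) ((Spec.map θ).stalkMap x)).2 ?_
  refine (RingHom.FormallySmooth.respectsIso.arrow_mk_iso_iff (Scheme.arrowStalkMapSpecIso θ x)).2 ?_
  letI := θ.hom.toAlgebra
  haveI : Algebra.FormallySmooth Γ(S, U) B := hθ
  let p := (x.comap θ.hom).asIdeal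
  let q := x.asIdeal
  haveI : q.LiesOver p := ⟨rfl⟩
  letI := Localization.AtPrime.algebraOfLiesOver p q
  haveI : Algebra.FormallyEtale B (Localization.AtPrime q) :=
    Algebra.FormallyEtale.of_isLocalization q.primeCompl
  haveI : Algebra.FormallyEtale Γ(S, U) (Localization.AtPrime p) :=
    Algebra.FormallyEtale.of_isLocalization p.primeCompl
  haveI : Algebra.FormallySmooth Γ(S, U) (Localization.AtPrime q) :=
    Algebra.FormallySmooth.comp Γ(S, U) B (Localization.AtPrime q)
  exact RingHom.formallySmooth_algebraMap.2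
    (Algebra.FormallySmooth.of_restrictScalars Γ(S, U) (Localization.AtPrime p) (Localization.AtPrime q))

end Groth.L27.KummerSNC
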